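import Cfsg.Agent.H38.PiCore
import Cfsg.Prelude.Def_Local
import Mathlib.GroupTheory.Transfer

/-!
helper38: Hall–Higman Lemma 1.2.3 for `p`-solvable groups (in the sense of `Cfsg.IsPSolvable`):
if `O_{p'}(G) = 1` then `C_G(O_p(G)) ≤ O_p(G)`.
-/

set_option autoImplicit false

namespace Cfsg.Agent.H38

open Cfsg

open scoped IsMulCommutative in
/-- For a central subgroup `H` of finite index `n`, the `n`-th power map is multiplicative
(it is the transfer into `H`). -/
theorem mul_pow_index_of_le_center {G : Type*} [Group G] (H : Subgroup G) [H.FiniteIndex]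
    (hH : H ≤ Subgroup.center G) (a b : G) : (a * b) ^ H.index = a ^ H.index * b ^ H.index := by
  let ϕ : H →* Subgroup.center G := Subgroup.inclusion hH
  have key : ∀ g : G, ((MonoidHom.transfer ϕ g : Subgroup.center G) : G) = g ^ H.index := by
    intro g
    have hk : ∀ (k : ℕ) (g₀ : G), g₀⁻¹ * g ^ k * g₀ ∈ H → g₀⁻¹ * g ^ k * g₀ = g ^ k := by
      intro k g₀ hk
      have hc := hH hk
      rw [Subgroup.mem_center_iff] at hc
      have h1 := hc g₀
      -- h1 : g₀ * (g₀⁻¹ * g ^ k * g₀) = g₀⁻¹ * g ^ k * g₀ * g₀
      have h2 : g₀ * (g₀⁻¹ * g ^ k * g₀) = g ^ k * g₀ := by group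
      rw [h2] at h1
      exact (mul_right_cancel h1).symm
    rw [MonoidHom.transfer_eq_pow ϕ g hk]
    rfl
  rw [← key, ← key, ← key, map_mul]
  rfl

/-- **Hall–Higman Lemma 1.2.3** for `p`-solvable groups. -/
theorem centralizer_pCore_le_of_isPSolvable {G : Type*} [Group G] [Finite G] {p : ℕ}
    [hp : Fact p.Prime] (hG : IsPSolvable p G) (hred : pPrimeCore p G = ⊥) :
    Subgroup.centralizer (pCore p G : Set G) ≤ pCore p G := by
  obtain ⟨n, H, hH0, hHlast, hHmono, hHnormal, hHstep⟩ := hG
  have hRn : (pCore p G).Normal := Subgroup.sSup_normal _ (fun _ hN => hN.1)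
  have hRp : IsPGroup p (pCore p G) := isPGroup_pCore p
  have hCn : (Subgroup.centralizer (pCore p G : Set G)).Normal := Subgroup.normal_centralizer
  have hchain : ∀ i : Fin (n + 1), Subgroup.centralizer (pCore p G : Set G) ⊓ H i ≤ pCore p G := by
    intro i
    induction i using Fin.induction with
    | zero =>
      rw [hH0, inf_bot_eq]; exact bot_le
    | succ i ih =>
      have hn1 := hHnormal i.castSucc
      have hn2 := hHnormal i.succ
      have hle : H i.castSucc ≤ H i.succ := hHmono (Fin.castSucc_le_succ i)
      set C := Subgroup.centralizer (pCore p G : Set G) with hC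
      set Z := C ⊓ H i.castSucc with hZ
      set D := C ⊓ H i.succ with hD
      have hZD : Z ≤ D := inf_le_inf_left C hle
      have hZn : Z.Normal := Subgroup.normal_inf_normal C (H i.castSucc)
      have hDn : D.Normal := Subgroup.normal_inf_normal C (H i.succ)
      -- the index of Z in D divides that of H i in H (i+1)
      have hdvd : Z.relIndex D ∣ (H i.castSucc).relIndex (H i.succ) := by
        have e1 : Z.relIndex D = (H i.castSucc).relIndex D := by
          have : H i.castSucc ⊓ D = Z := by
            rw [hD, hZ]
            apply le_antisymm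
            · exact le_inf (inf_le_right.trans inf_le_left) inf_le_left
            · exact le_inf inf_le_right (le_inf inf_le_left (inf_le_right.trans hle))
          rw [← this, Subgroup.inf_relIndex_right]
        rw [e1]
        have h1 := Subgroup.relIndex_ker D (QuotientGroup.mk' (H i.castSucc))
        have h2 := Subgroup.relIndex_ker (H i.succ) (QuotientGroup.mk' (H i.castSucc))
        rw [QuotientGroup.ker_mk'] at h1 h2
        rw [h1, h2]
        exact Subgroup.card_dvd_of_le (Subgroup.map_mono inf_le_right)
      have hpowZ : ∀ d ∈ D, d ^ Z.relIndex D ∈ Z := fun d hd => Subgroup.pow_relIndex_mem Z hd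
      -- D is a p-group
      have hDp : ∀ d ∈ D, ∃ k : ℕ, d ^ p ^ k = 1 := by
        rcases hHstep i with ⟨e, he⟩ | hcop
        · -- p-factor
          rw [he] at hdvd
          obtain ⟨j, -, hj⟩ := (Nat.dvd_prime_pow hp.out).mp hdvd
          intro d hd
          have h1 := hpowZ d hd
          rw [hj] at h1
          obtain ⟨k, hk⟩ := hRp ⟨d ^ p ^ j, ih h1⟩
          have hk' : (d ^ p ^ j) ^ p ^ k = 1 := by
            have := congrArg Subtype.val hk
            simpa using this
          refine ⟨j + k, ?_⟩
          rw [pow_add, pow_mul]; exact hk'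
        · -- p'-factor
          have hm : (Z.relIndex D).Coprime p := Nat.Coprime.coprime_dvd_left hdvd hcop
          -- Z is central in D
          have hcentral : ∀ z ∈ Z, ∀ d ∈ D, d * z = z * d := by
            intro z hz d hd
            have hdC : d ∈ C := hd.1
            rw [hC, Subgroup.mem_centralizer_iff] at hdC
            exact (hdC z (ih hz)).symm
          have hcenter : Z.subgroupOf D ≤ Subgroup.center D := by
            intro z hz
            rw [Subgroup.mem_center_iff]
            intro d
            apply Subtype.ext
            exact hcentral z hz d d.2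
          have hmul : ∀ a ∈ D, ∀ b ∈ D, (a * b) ^ Z.relIndex D = a ^ Z.relIndex D * b ^ Z.relIndex D := by
            intro a ha b hb
            have := mul_pow_index_of_le_center (Z.subgroupOf D) hcenter ⟨a, ha⟩ ⟨b, hb⟩
            exact congrArg Subtype.val this
          -- the subgroup of elements of D killed by the index
          let K : Subgroup G :=
            { carrier := {d | d ∈ D ∧ d ^ Z.relIndex D = 1}
              mul_mem' := fun {a b} ha hb => ⟨D.mul_mem ha.1 hb.1, by
                rw [hmul a ha.1 b hb.1, ha.2, hb.2, one_mul]⟩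
              one_mem' := ⟨D.one_mem, one_pow _⟩
              inv_mem' := fun {a} ha => ⟨D.inv_mem ha.1, by rw [inv_pow, ha.2, inv_one]⟩ }
          have hKn : K.Normal := by
            constructor
            intro k hk g
            refine ⟨hDn.conj_mem k hk.1 g, ?_⟩
            rw [conj_pow, hk.2, mul_one, mul_inv_cancel]
          have hKcop : (Nat.card K).Coprime p := by
            rw [Nat.coprime_comm, Nat.Prime.coprime_iff_not_dvd hp.out]
            intro hdiv
            obtain ⟨x, hx⟩ := exists_prime_orderOf_dvd_card' (G := K) p hdiv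
            have hx1 : (x : G) ^ Z.relIndex D = 1 := x.2.2
            have hx2 : orderOf (x : G) = p := by rw [Subgroup.orderOf_coe]; exact hx
            have := orderOf_dvd_of_pow_eq_one hx1
            rw [hx2] at this
            have h1 := Nat.Coprime.eq_one_of_dvd hm.symm this
            exact hp.out.one_lt.ne' h1
          have hKbot : K = ⊥ := by
            rw [eq_bot_iff, ← hred]
            exact le_pPrimeCore K hKn hKcop
          intro d hd
          obtain ⟨k, hk⟩ := hRp ⟨d ^ Z.relIndex D, ih (hpowZ d hd)⟩
          have hk' : (d ^ Z.relIndex D) ^ p ^ k = 1 := by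
            have := congrArg Subtype.val hk
            simpa using this
          refine ⟨k, ?_⟩
          have hmem : d ^ p ^ k ∈ K := by
            refine ⟨D.pow_mem hd _, ?_⟩
            rw [← pow_mul, mul_comm, pow_mul]; exact hk'
          rw [hKbot] at hmem
          exact hmem
      apply le_pCore D hDn
      rintro ⟨d, hd⟩
      obtain ⟨k, hk⟩ := hDp d hd
      exact ⟨k, Subtype.ext hk⟩
  have := hchain (Fin.last n)
  rwa [hHlast, inf_top_eq] at this

end Cfsg.Agent.H38
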