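import Mathlib
import Cfsg.Agent.H14.CqDefs

/-!
# CQ-CARDM (helper38, for helper14): the number of totally singular `m`-spaces of the minus space

Arithmetic assembly from `StTuples`, `StFib`, `StZMinus`.
-/

set_option autoImplicit false

namespace Cfsg.Agent.H38.Cq

open Cfsg.Agent.H77.Tq Cfsg.Agent.H77.Tm Cfsg.Agent.H14.Cq Module

universe u

/-- The `j`-th factor of the tuple count for the minus form. -/
theorem cardM_factor (q k j Z : ℕ) (hq : 1 ≤ q) (hjk : j < k)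
    (hZ : Z + q ^ (k + 1) = q ^ (2 * k + 1) + q ^ k) :
    Z + q ^ (2 * k + 1 - j) - q ^ (2 * k + 1) - q ^ j =
      q ^ j * ((q ^ (k + 1 - j) + 1) * (q ^ (k - j) - 1)) := by
  obtain ⟨c, hc⟩ : ∃ c, q ^ (k - j) = c + 1 :=
    ⟨q ^ (k - j) - 1, by have := Nat.one_le_pow (k - j) q hq; omega⟩
  have e1 : q ^ k = q ^ j * q ^ (k - j) := by
    rw [← pow_add]; congr 1; omega
  have e2 : q ^ (k + 1) = q * (q ^ j * q ^ (k - j)) := by
    rw [← pow_add, ← pow_succ']; congr 1; omega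
  have e3 : q ^ (k + 1 - j) = q * q ^ (k - j) := by
    rw [← pow_succ']; congr 1; omega
  have e4 : q ^ (2 * k + 1 - j) = q * (q ^ j * q ^ (k - j) * q ^ (k - j)) := by
    rw [← pow_add, ← pow_add, ← pow_succ']; congr 1; omega
  have e5 : q ^ (2 * k + 1) = q * (q ^ j * q ^ (k - j) * (q ^ j * q ^ (k - j))) := by
    rw [← pow_add, ← pow_add, ← pow_succ']; congr 1; omega
  rw [e1, e2, e5, hc] at hZ
  rw [e3, e4, e5, hc]
  generalize q ^ j = x at *
  have key : Z + q * (x * (c + 1) * (c + 1)) =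
      x * ((q * (c + 1) + 1) * c) + (q * (x * (c + 1) * (x * (c + 1))) + x) := by
    have h : Z + q * (x * (c + 1) * (c + 1)) + q * (x * (c + 1)) =
        x * ((q * (c + 1) + 1) * c) + (q * (x * (c + 1) * (x * (c + 1))) + x) +
          q * (x * (c + 1)) := by
      calc Z + q * (x * (c + 1) * (c + 1)) + q * (x * (c + 1))
          = (Z + q * (x * (c + 1))) + q * (x * (c + 1) * (c + 1)) := by ring
        _ = _ := by rw [hZ]; ring
    exact Nat.add_right_cancel h
  rw [Nat.sub_sub, key, Nat.add_sub_cancel, Nat.add_sub_cancel]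

/-- CQ-CARDM. -/
theorem cardM (hT : StTuples.{u, u}) (hF : StFib.{u, u}) (hZ : StZMinus.{u}) : StCardM.{u} := by
  intro F _ _ k a b m hab hmk
  have hnd : ∀ x, (∀ y, QuadraticMap.polar ⇑(Cfsg.Agent.H49.QMin k F a b) x y = 0) → x = 0 := by
    intro x hx
    exact (Cfsg.Agent.H49.QMin_nondeg k a b
      (Cfsg.Agent.H49.disc_ne_zero_of_aniso a b hab)).1 x hx
  have h1 := hT F (MI k → F) (Cfsg.Agent.H49.QMin k F a b) hnd m
  have h2 := hF F (MI k → F) (Cfsg.Agent.H49.QMin k F a b) m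
  have h3 := hZ F k a b hab
  have hNM : NM F k a b m = Nat.card {W : Submodule F (MI k → F) //
      Module.finrank F ↥W = m ∧ ∀ w ∈ W, (Cfsg.Agent.H49.QMin k F a b) w = 0} := rfl
  rw [hNM, ← h2, h1]
  apply Finset.prod_congr rfl
  intro j hj
  rw [Finset.mem_range] at hj
  have hfr : Module.finrank F (MI k → F) = 2 * (k + 1) := Cfsg.Agent.H49.finrank_minus k
  rw [hfr]
  have h21 : 2 * (k + 1) - 1 = 2 * k + 1 := by omega
  rw [h21]
  exact cardM_factor _ k j _ Fintype.card_pos (by omega) h3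

example : Cfsg.Agent.H14.Cq.StTuples.{u, u} → Cfsg.Agent.H14.Cq.StFib.{u, u} →
    Cfsg.Agent.H14.Cq.StZMinus.{u} → Cfsg.Agent.H14.Cq.StCardM.{u} :=
  Cfsg.Agent.H38.Cq.cardM

end Cfsg.Agent.H38.Cq

#print axioms Cfsg.Agent.H38.Cq.cardM
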