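import Mathlib
import Cfsg.Agent.H31.BG9a

set_option autoImplicit false
set_option linter.unusedSectionVars false

/-!
# B&G Lemma 9.1(b) for an arbitrary nontrivial `p`-subgroup (helper38; the proof is helper31's
`Cfsg.Agent.H31.BG9.bg91`, which never uses that `B` is elementary abelian or noncyclic)
-/

namespace Cfsg.Agent.H38.BG95

open Cfsg Subgroup Cfsg.Agent.Lib.Helper30 Cfsg.Agent.H31.X.H37.Bender Cfsg.Agent.H58
  Cfsg.Agent.H31.T2 Cfsg.Agent.H31.BG8 Cfsg.Agent.H31.BG9

open scoped commutatorElement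

universe u

variable {G : Type u} [Group G]

/-- B&G Lemma 9.1(b) for an arbitrary nontrivial `p`-subgroup `B`. -/
theorem bg91' [Finite G] (hG : IsMinSimpleOddOrder G) {M : Subgroup G} (hM : IsCoatom M)
    {p : ℕ} [Fact p.Prime] {B : Subgroup G} (hBM : B ≤ M) (hBp : IsPGroup p B) (hB0 : B ≠ ⊥)
    (hb : ∀ Y : Subgroup G, (Nat.card Y).Coprime p → B ≤ normalizer (Y : Set G) → Y ≤ M) :
    ∀ H : Subgroup G, IsCoatom H → B ≤ H → H = M := by
  have hp : p.Prime := Fact.out
  have hs : IsSimpleGroup G := hG.2.1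
  have hMtop : M ≠ ⊤ := hM.1
  haveI hMsolv : Group.IsSolvable M := hG.2.2.2 M hMtop
  -- normalizers of Sylow subgroups of `M` containing `B` lie in `M`
  have hNP : ∀ P : Sylow p M, B ≤ (P : Subgroup M).map M.subtype →
      normalizer (((P : Subgroup M).map M.subtype : Subgroup G) : Set G) ≤ M := by
    intro P hBP
    have hP0 : (P : Subgroup M) ≠ ⊥ := by
      intro h
      rw [h, Subgroup.map_bot] at hBP
      exact hB0 (le_bot_iff.mp hBP)
    by_cases hO : pPrimeCore p ↥M = ⊥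
    · obtain ⟨hMW, hW0, hWtop, -⟩ := zj_lemma hG hM hO P hP0
      have hNW := normalizer_eq_of_coatom' hG hM hW0 hWtop hMW
      exact (normalizer_le_normalizer_cJ p _).trans hNW.le
    · obtain ⟨OG, hOGdef⟩ : ∃ OG : Subgroup G, OG = (pPrimeCore p ↥M).map M.subtype := ⟨_, rfl⟩
      have hOG0 : OG ≠ ⊥ := by
        rwa [hOGdef, Ne, Subgroup.map_eq_bot_iff_of_injective _ (Subgroup.subtype_injective _)]
      have hOGM : OG ≤ M := by rw [hOGdef]; exact Subgroup.map_subtype_le _
      have hOGtop : OG ≠ ⊤ := fun h => hMtop (top_le_iff.mp (h ▸ hOGM))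
      have hMO : M ≤ normalizer (OG : Set G) := by
        rw [hOGdef]; exact le_normalizer_map_subtype M (pPrimeCore p ↥M)
      have hOGcop : (Nat.card OG).Coprime p := by
        rw [hOGdef, Subgroup.card_subtype]
        exact Cfsg.Agent.H37.card_pPrimeCore_coprime p
      have hNO := normalizer_eq_of_coatom' hG hM hOG0 hOGtop hMO
      refine le_trans ?_ hNO.le
      intro g hg
      rw [mem_normalizer_iff_map_conj]
      have hcard : Nat.card (OG.map (MulAut.conj g).toMonoidHom) = Nat.card OG :=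
        card_map_conj g _
      have hcop : (Nat.card (OG.map (MulAut.conj g).toMonoidHom)).Coprime p := by
        rw [hcard]; exact hOGcop
      have hPY : (P : Subgroup M).map M.subtype ≤
          normalizer ((OG.map (MulAut.conj g).toMonoidHom : Subgroup G) : Set G) :=
        le_normalizer_map_conj hg ((Subgroup.map_subtype_le _).trans hMO)
      have hYM : OG.map (MulAut.conj g).toMonoidHom ≤ M := hb _ hcop (hBP.trans hPY)
      have hle : (OG.map (MulAut.conj g).toMonoidHom).subgroupOf M ≤ pPrimeCore p ↥M := by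
        apply sylow_inv_le_core p P
        · rw [Nat.card_congr (Subgroup.subgroupOfEquivOfLe hYM).toEquiv]; exact hcop
        · have := Cfsg.Agent.H31.X.H37.MaxLocal.subgroupOf_le_normalizer M hPY
          rwa [show ((P : Subgroup M).map M.subtype).subgroupOf M = P from
            Subgroup.comap_map_eq_self_of_injective (Subgroup.subtype_injective _) _] at this
      have hle' : OG.map (MulAut.conj g).toMonoidHom ≤ OG := by
        intro y hy
        rw [hOGdef]
        exact ⟨⟨y, hYM hy⟩, hle (Subgroup.mem_subgroupOf.mpr hy), rfl⟩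
      exact Subgroup.eq_of_le_of_card_ge hle' hcard.ge
  intro H₀ hH₀ hBH₀
  by_contra hne₀
  have hB𝒮 : B ∈ {R : Subgroup G | IsPGroup p R ∧ B ≤ R ∧ R ≤ M ∧
      ∃ H : Subgroup G, IsCoatom H ∧ H ≠ M ∧ R ≤ H} :=
    ⟨hBp, le_rfl, hBM, H₀, hH₀, hne₀, hBH₀⟩
  obtain ⟨R, hBR, hRmax⟩ := (Set.toFinite {R : Subgroup G | IsPGroup p R ∧ B ≤ R ∧ R ≤ M ∧
      ∃ H : Subgroup G, IsCoatom H ∧ H ≠ M ∧ R ≤ H}).exists_le_maximal hB𝒮
  obtain ⟨hRp, -, hRM, H, hH, hHM, hRH⟩ := hRmax.1
  have hmax : ∀ D : Subgroup G, IsPGroup p D → D ≤ M →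
      (∃ H : Subgroup G, IsCoatom H ∧ H ≠ M ∧ D ≤ H) → R ≤ D → D = R :=
    fun D hDp hDM hDH hRD => le_antisymm (hRmax.2 ⟨hDp, hBR.trans hRD, hDM, hDH⟩ hRD) hRD
  have hR0 : R ≠ ⊥ := fun h => hB0 (le_bot_iff.mp (h ▸ hBR))
  have hRtop : R ≠ ⊤ := not_isPGroup_top hG hRp
  have hHtop : H ≠ ⊤ := hH.1
  haveI hHsolv : Group.IsSolvable H := hG.2.2.2 H hHtop
  -- a Sylow subgroup of `M` containing `R`
  obtain ⟨P', hP'⟩ := (hRp.comap_subtype (K := M)).exists_le_sylow
  have hRPG : R ≤ (P' : Subgroup M).map M.subtype := by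
    intro x hx
    exact ⟨⟨x, hRM hx⟩, hP' (Subgroup.mem_subgroupOf.mpr hx), rfl⟩
  have hPGp : IsPGroup p ((P' : Subgroup M).map M.subtype) := P'.isPGroup'.map _
  have hNPG := hNP P' (hBR.trans hRPG)
  -- Step 1
  have hNR : normalizer (R : Set G) ≤ M := by
    have hNtop : normalizer (R : Set G) ≠ ⊤ := minSimple_normalizer_ne_top hG hR0 hRtop
    obtain ⟨D, hD, hND⟩ :=
      (eq_top_or_exists_le_coatom (normalizer (R : Set G))).resolve_left hNtop
    by_cases hDM : D = M
    · exact hDM ▸ hND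
    · have hD'eq := hmax _ (hPGp.to_le inf_le_left)
        (inf_le_left.trans (Subgroup.map_subtype_le _))
        ⟨D, hD, hDM, inf_le_right.trans hND⟩ (le_inf hRPG le_normalizer)
      have hRPeq : R = (P' : Subgroup M).map M.subtype := by
        by_contra hne
        have := lt_inf_normalizer hPGp (lt_of_le_of_ne hRPG hne)
        exact this.ne' hD'eq
      rw [hRPeq]; exact hNPG
  -- Step 2
  obtain ⟨S, hS⟩ := (hRp.comap_subtype (K := H)).exists_le_sylow
  have hRSG : R ≤ (S : Subgroup H).map H.subtype := by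
    intro x hx
    exact ⟨⟨x, hRH hx⟩, hS (Subgroup.mem_subgroupOf.mpr hx), rfl⟩
  have hSGp : IsPGroup p ((S : Subgroup H).map H.subtype) := S.isPGroup'.map _
  have hSR : (S : Subgroup H).map H.subtype = R := by
    by_contra hne
    have hlt : R < (S : Subgroup H).map H.subtype := lt_of_le_of_ne hRSG (Ne.symm hne)
    have hD := lt_inf_normalizer hSGp hlt
    have := hmax _ (hSGp.to_le inf_le_left) (inf_le_right.trans hNR)
      ⟨H, hH, hHM, inf_le_left.trans (Subgroup.map_subtype_le _)⟩ hD.le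
    exact hD.ne' this
  -- Step 3
  have hKM : (pPrimeCore p ↥H).map H.subtype ≤ M := by
    apply hb
    · rw [Subgroup.card_subtype]; exact Cfsg.Agent.H37.card_pPrimeCore_coprime p
    · exact (hBR.trans hRH).trans (le_normalizer_map_subtype H (pPrimeCore p ↥H))
  -- Step 4
  have hSK : ((S : Subgroup H) ⊔ pPrimeCore p ↥H).map H.subtype ≤ M := by
    rw [Subgroup.map_sup, hSR]
    exact sup_le hRM hKM
  have hFM : FOf H ≤ M := (Subgroup.map_mono (fitting_le_sylow_sup_core p S)).trans hSK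
  -- Step 5
  have hodd : Odd (Nat.card H) := hG.1.of_dvd_nat (Subgroup.card_subgroup_dvd_card H)
  by_cases hrk : RankLE 2 (fittingSubgroup ↥H)
  · have hnil := (Cfsg.Agent.S1451.result (G := ↥H) hodd (Or.inr hrk)).1
    have hcomm : commutator ↥H ≤ fittingSubgroup ↥H := le_sSup ⟨inferInstance, hnil⟩
    have hfr := frattini_of_comm_le p S hcomm
    apply hHM
    have hHleM : H ≤ M := by
      intro h hh
      obtain ⟨x, hx, n, hn, hxn⟩ := hfr ⟨h, hh⟩
      have h1 : (x : G) ∈ M := hSK ⟨x, hx, rfl⟩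
      have h2 : (n : G) ∈ M := by
        apply hNR
        rw [← hSR]
        exact Subgroup.le_normalizer_map H.subtype ⟨n, hn, rfl⟩
      have e : h = (x : G) * (n : G) := by
        have := congrArg Subtype.val hxn
        simpa using this
      rw [e]; exact M.mul_mem h1 h2
    by_contra hne
    exact hMtop (hH.2 _ (lt_of_le_of_ne hHleM hne))
  · unfold RankLE at hrk
    push Not at hrk
    obtain ⟨q, hq, hqr⟩ := hrk
    haveI : Fact q.Prime := ⟨hq⟩
    unfold PRankLE at hqr
    push Not at hqr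
    obtain ⟨E, hEc, hEp, hEcard⟩ := hqr
    obtain ⟨A₀, hA₀def⟩ : ∃ A₀ : Subgroup G,
      A₀ = (E.map (fittingSubgroup ↥H).subtype).map H.subtype := ⟨_, rfl⟩
    have hA₀F : A₀ ≤ FOf H := by
      rw [hA₀def]; exact Subgroup.map_mono (Subgroup.map_subtype_le _)
    have hA₀card : Nat.card A₀ = Nat.card E := by
      rw [hA₀def, Subgroup.card_subtype, Subgroup.card_subtype]
    have hA₀e : IsElementaryAbelian q A₀ := by
      rw [hA₀def]
      exact isElementaryAbelian_map _ (isElementaryAbelian_map _ ⟨hEc, hEp⟩)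
    have hA₀lt : q ^ 2 < Nat.card A₀ := by rw [hA₀card]; exact hEcard
    have hA₀3 : q ^ 3 ≤ Nat.card A₀ :=
      pow_succ_le_card_of_lt (isPGroup_of_exponent hA₀e.2) hA₀lt
    have hA₀1 : 1 < Nat.card A₀ := lt_of_le_of_lt (Nat.one_le_pow _ _ hq.pos) hA₀lt
    have hqF : q ∣ Nat.card (FOf H) := dvd_card_of_exponent_prime hA₀F hA₀e.2 hA₀1
    by_cases hFq : IsPGroup q ↥(FOf H)
    · obtain ⟨Q⟩ : Nonempty (Sylow q H) := inferInstance
      obtain ⟨-, hscn⟩ := bg81b hG hH hqF hFq Q
      have hq2 : q ≠ 2 := by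
        rintro rfl
        have h2G : 2 ∣ Nat.card G := dvd_trans hqF
          ((Subgroup.card_dvd_of_le (FOf_le H)).trans (Subgroup.card_subgroup_dvd_card H))
        exact (Nat.not_even_iff_odd.mpr hG.1) (even_iff_two_dvd.mpr h2G)
      have hFQ : FOf H ≤ (Q : Subgroup H).map H.subtype := by
        apply Subgroup.map_mono
        have hFp' : IsPGroup q (fittingSubgroup ↥H) := by
          obtain ⟨k, hk⟩ := IsPGroup.iff_card.mp hFq
          exact IsPGroup.of_card (by rw [← card_FOf, hk])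
        haveI : (fittingSubgroup ↥H).Normal := Cfsg.Agent.H27.fitting_normal _
        exact Cfsg.Agent.H1.normal_pgroup_le_sylow q _ hFp' Q
      have hQr : ¬ PRankLE q 2 ↥((Q : Subgroup H).map H.subtype) :=
        not_pRankLE_of_le (hA₀F.trans hFQ) hA₀e hA₀lt
      obtain ⟨A, hA, hAr⟩ := exists_scn3 hq2 (Q.isPGroup'.map _) hQr
      obtain ⟨hAF, hAu⟩ := hscn A hA hAr
      exact hHM (hAu.unique ⟨hH, hAF.trans (FOf_le H)⟩ ⟨hM, hAF.trans hFM⟩)
    · have hu := bg81a hG hH hA₀F hA₀e hA₀3 hFq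
      exact hHM (hu.unique ⟨hH, inf_le_left.trans (FOf_le H)⟩ ⟨hM, inf_le_left.trans hFM⟩)

end Cfsg.Agent.H38.BG95
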