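import Mathlib.GroupTheory.Sylow
import Mathlib.GroupTheory.PGroup
import Mathlib.GroupTheory.Perm.Cycle.Type

/-!
helper38: fixed points of p-groups acting by conjugation on finite sets of elements,
a parity lemma for involutive maps, and Sylow subgroups centralizing a p-element.
-/

set_option autoImplicit false

namespace Cfsg.Agent.H38

/-- An involutive self-map of a finite type with exactly one fixed point: the type has odd
cardinality. -/
theorem odd_card_of_invol_unique_fixed {X : Type*} [Finite X] (f : X → X)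
    (hf : ∀ x, f (f x) = x) (s : X) (hs : f s = s) (huniq : ∀ x, f x = x → x = s) :
    Odd (Nat.card X) := by
  classical
  have := Fintype.ofFinite X
  have : Fact (Nat.Prime 2) := ⟨Nat.prime_two⟩
  let F : Function.End X := f
  have hff : F ^ 2 ^ 1 = 1 := by
    rw [pow_one, pow_two]
    funext x
    exact hf x
  have h := Equiv.Perm.card_fixedPoints_modEq (p := 2) (n := 1) (f := F) hff
  have hfix : Fintype.card (Function.fixedPoints f) = 1 := by
    rw [Fintype.card_eq_one_iff]
    exact ⟨⟨s, hs⟩, fun y => Subtype.ext (huniq y.1 y.2)⟩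
  rw [Nat.card_eq_fintype_card, Nat.odd_iff]
  have h' : Fintype.card X % 2 = Fintype.card (Function.fixedPoints f) % 2 := h
  rw [h', hfix]

/-- A `p`-subgroup `A` acting by conjugation on a finite `A`-invariant set `T` of elements with
`p ∤ |T|` fixes an element of `T`. -/
theorem exists_conj_fixed {G : Type*} [Group G] {p : ℕ} [Fact p.Prime] (A : Subgroup G)
    (hA : IsPGroup p A) (T : Set G) (hinv : ∀ a ∈ A, ∀ t ∈ T, a * t * a⁻¹ ∈ T)
    (hp : ¬ p ∣ Nat.card T) : ∃ t ∈ T, ∀ a ∈ A, a * t * a⁻¹ = t := by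
  let _ : MulAction A T :=
    { smul := fun a t => ⟨(a : G) * t * (a : G)⁻¹, hinv a a.2 t t.2⟩
      one_smul := fun t => Subtype.ext (by
        change ((1 : A) : G) * t * ((1 : A) : G)⁻¹ = t
        simp)
      mul_smul := fun a b t => Subtype.ext (by
        change ((a * b : A) : G) * t * ((a * b : A) : G)⁻¹ = (a : G) * ((b : G) * t * (b : G)⁻¹) * (a : G)⁻¹
        simp [mul_assoc]) }
  obtain ⟨t, ht⟩ := hA.nonempty_fixed_point_of_prime_not_dvd_card T hp
  refine ⟨t.1, t.2, fun a ha => ?_⟩
  have := ht ⟨a, ha⟩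
  exact congrArg Subtype.val this

/-- If a Sylow `p`-subgroup `P` centralizes an element `u` generating a `p`-group, then `u`
lies in `P`. -/
theorem mem_sylow_of_centralizes {G : Type*} [Group G] {p : ℕ} [Fact p.Prime] (P : Sylow p G)
    (u : G) (hu : IsPGroup p (Subgroup.zpowers u)) (hc : ∀ x ∈ P, x * u = u * x) : u ∈ P := by
  have hnorm : Subgroup.zpowers u ≤ Subgroup.normalizer (P : Subgroup G) := by
    rw [Subgroup.zpowers_le]
    rw [Subgroup.mem_normalizer_iff]
    intro h
    constructor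
    · intro hh
      have e : u * h * u⁻¹ = h := by rw [← hc h hh, mul_inv_cancel_right]
      rw [e]; exact hh
    · intro hh
      have h1 := hc _ hh
      rw [inv_mul_cancel_right] at h1
      have e : h = u * h * u⁻¹ := mul_left_cancel h1
      rw [e]; exact hh
  have hsup : IsPGroup p (Subgroup.zpowers u ⊔ (P : Subgroup G) : Subgroup G) :=
    IsPGroup.to_sup_of_normal_right' hu P.2 hnorm
  have := P.is_maximal' hsup le_sup_right
  have hmem : u ∈ Subgroup.zpowers u ⊔ (P : Subgroup G) :=
    (le_sup_left : Subgroup.zpowers u ≤ _) (Subgroup.mem_zpowers u)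
  rw [this] at hmem
  exact hmem

/-- If a Sylow `p`-subgroup centralizes a `p`-element `u`, then every conjugate of `u` lies in the
centre of some Sylow `p`-subgroup. -/
theorem exists_sylow_center_of_centralizes {G : Type*} [Group G] {p : ℕ} [Fact p.Prime]
    (P : Sylow p G) (u : G) (hu : IsPGroup p (Subgroup.zpowers u))
    (hc : ∀ x ∈ P, x * u = u * x) (z : G) (hz : IsConj u z) :
    ∃ P' : Sylow p G, z ∈ (Subgroup.center ↥(P' : Subgroup G)).map (P' : Subgroup G).subtype := by
  obtain ⟨c, hcz⟩ := isConj_iff.mp hz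
  have huP := mem_sylow_of_centralizes P u hu hc
  refine ⟨c • P, ?_⟩
  have hmem : ∀ y : G, y ∈ ((c • P : Sylow p G) : Subgroup G) ↔ c⁻¹ * y * c ∈ P := by
    intro y
    rw [Sylow.coe_subgroup_smul]
    rw [Subgroup.mem_pointwise_smul_iff_inv_smul_mem]
    simp only [MulAut.smul_def]
    exact Iff.rfl
  have hzP : z ∈ ((c • P : Sylow p G) : Subgroup G) := by
    rw [hmem, ← hcz]
    simpa [mul_assoc] using huP
  refine ⟨⟨z, hzP⟩, ?_, rfl⟩
  change (⟨z, hzP⟩ : ↥((c • P : Sylow p G) : Subgroup G)) ∈ Subgroup.center _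
  rw [Subgroup.mem_center_iff]
  rintro ⟨y, hy⟩
  apply Subtype.ext
  change y * z = z * y
  have h1 := hc _ ((hmem y).mp hy)
  -- c⁻¹ y c u = u c⁻¹ y c
  rw [← hcz]
  calc y * (c * u * c⁻¹) = c * ((c⁻¹ * y * c) * u) * c⁻¹ := by group
    _ = c * (u * (c⁻¹ * y * c)) * c⁻¹ := by rw [h1]
    _ = c * u * c⁻¹ * y := by group

end Cfsg.Agent.H38
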