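import Cfsg.Agent.H38.DFunctor
import Cfsg.Agent.H38.QdStable
import Cfsg.Agent.H38.QdNat3

set_option autoImplicit false

/-!
# Control of strong fusion by `N(Ω_n Z J_n(D))`, `D` strongly closed, in `Qd(p)`-free groups
(helper38)

Glauberman's local-to-global induction (helper40's `fsf_of_hyp`) run for the conjugacy functor
`dFun n D` attached to a strongly closed subgroup `D`.
-/

namespace Cfsg.Agent.H38.DF

open Cfsg Cfsg.Agent.H39 Cfsg.Agent.H40.Sec Cfsg.Agent.H29

universe u

local notation "cj(" g ", " Q ")" => Subgroup.map (MulEquiv.toMonoidHom (MulAut.conj g)) Q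
local notation "N(" Q ")" => Subgroup.normalizer (SetLike.coe (Q : Subgroup _))

/-- Case (ii), for arbitrary families upstairs and downstairs. -/
theorem fsf_case_ii' {G : Type*} [Group G] [Finite G] {p : ℕ} [Fact p.Prime]
    (S : Sylow p G) (Q : Subgroup G) [Q.Normal] (hQS : Q ≤ (S : Subgroup G))
    (hSC : (S : Subgroup G) ⊔ Subgroup.centralizer (Q : Set G) = ⊤)
    {𝓕 : Set (Subgroup G → Subgroup G)} {𝓕b : Set (Subgroup (G ⧸ Q) → Subgroup (G ⧸ Q))}
    (hbar : FSF 𝓕b ⊤ ((S : Subgroup G).map (QuotientGroup.mk' Q)))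
    (hN : ∀ W ∈ 𝓕b, GoodOn 𝓕 (S : Subgroup G)
      ((N(W ((S : Subgroup G).map (QuotientGroup.mk' Q)))).comap (QuotientGroup.mk' Q)))
    (hself : GoodOn 𝓕 (S : Subgroup G) (S : Subgroup G)) :
    FSF 𝓕 ⊤ (S : Subgroup G) := by
  have hSp : IsPGroup p (S : Subgroup G) := S.isPGroup'
  have hpre : ∀ y : G, QuotientGroup.mk' Q y ∈ (S : Subgroup G).map (QuotientGroup.mk' Q) →
      y ∈ (S : Subgroup G) := by
    intro y hy
    have h3 : y ∈ ((S : Subgroup G).map (QuotientGroup.mk' Q)).comap (QuotientGroup.mk' Q) := hy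
    rwa [Subgroup.comap_map_eq, QuotientGroup.ker_mk', sup_eq_left.mpr hQS] at h3
  -- lifting of chains
  have key : ∀ (Bb : Subgroup (G ⧸ Q)) (gb : G ⧸ Q),
      FChain 𝓕b ⊤ ((S : Subgroup G).map (QuotientGroup.mk' Q)) Bb gb →
      ∀ B : Subgroup G, B ≤ (S : Subgroup G) → Q ≤ B → B.map (QuotientGroup.mk' Q) = Bb →
      ∃ g' : G, QuotientGroup.mk' Q g' = gb ∧ Good 𝓕 ⊤ (S : Subgroup G) B g' := by
    intro Bb gb d
    induction d with
    | nil Bb =>
      intro B _ _ _
      exact ⟨1, map_one _, Good.of_fchain (FChain.nil _)⟩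
    | cons Bb xb gb Wb hWb _ hxN hxB _ ih =>
      intro B hB hQB hBm
      obtain ⟨x, rfl⟩ := QuotientGroup.mk'_surjective Q xb
      have hxcj : cj(x, B) ≤ (S : Subgroup G) := by
        rw [conjMap_le_iff]
        intro b hb
        apply hpre
        have h1 : QuotientGroup.mk' Q x * QuotientGroup.mk' Q b * (QuotientGroup.mk' Q x)⁻¹ ∈
            (S : Subgroup G).map (QuotientGroup.mk' Q) :=
          hxB (conj_mem_conjMap (hBm ▸ Subgroup.mem_map_of_mem _ hb))
        have h2 : QuotientGroup.mk' Q (x * b * x⁻¹) =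
            QuotientGroup.mk' Q x * QuotientGroup.mk' Q b * (QuotientGroup.mk' Q x)⁻¹ := by
          simp only [map_mul, map_inv]
        rw [h2]; exact h1
      have hgood : Good 𝓕 ⊤ (S : Subgroup G) B x := hN Wb hWb B hB x hxN hxcj
      have hQ' : Q ≤ cj(x, B) := by
        have := conjMap_mono (g := x) hQB
        rwa [conjMap_normal_eq] at this
      obtain ⟨g₁, hg₁, good₁⟩ := ih (cj(x, B)) hxcj hQ' (by rw [map_conjMap, hBm])
      exact ⟨g₁ * x, by rw [map_mul, hg₁], hgood.trans good₁⟩
  -- elements acting trivially modulo `Q`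
  have hDB : ∀ B : Subgroup G, Q ≤ B → B ≤ (S : Subgroup G) →
      (∀ B' : Subgroup G, B' ≤ (S : Subgroup G) → Nat.card B < Nat.card B' →
        ∀ g : G, cj(g, B') ≤ (S : Subgroup G) → Good 𝓕 ⊤ (S : Subgroup G) B' g) →
      ∀ y ∈ DB Q B, Good 𝓕 ⊤ (S : Subgroup G) B y := by
    intro B hQB hB IH y hy
    by_cases hBS : B = (S : Subgroup G)
    · rw [hBS] at hy hQB ⊢
      exact good_of_mem_DB_fn S Q hQS hSC hself _ hQB le_rfl (sylIn_self_normalizer S) y hy
    · have hlt : B < (S : Subgroup G) := lt_of_le_of_ne hB hBS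
      obtain ⟨v, -, hvB, hvsyl, hvpush⟩ := exists_fn_conj (sylIn_top S) hB
      rw [top_inf_eq] at hvsyl
      have hNlt := lt_inf_normalizer hSp hlt
      have gv : Good 𝓕 ⊤ (S : Subgroup G) ((S : Subgroup G) ⊓ N(B)) v :=
        IH _ inf_le_left (card_lt_card_of_lt hNlt) v (hvpush.trans inf_le_left)
      have gvB : Good 𝓕 ⊤ (S : Subgroup G) B v := gv.mono hNlt.le
      have hQ' : Q ≤ cj(v, B) := by
        have := conjMap_mono (g := v) hQB
        rwa [conjMap_normal_eq] at this
      have hy₁ := DB_conj (Q := Q) v hy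
      have g₁ := good_of_mem_DB_fn S Q hQS hSC hself (cj(v, B)) hQ' hvB hvsyl _ hy₁
      have g2 := gvB.trans g₁
      have g3 : Good 𝓕 ⊤ (S : Subgroup G) (cj(v, B)) v⁻¹ := gvB.symm hB
      have e : cj(v * y * v⁻¹ * v, B) = cj(v, B) := by
        rw [conjMap_mul, conjMap_of_mem_normalizer (DB_le_normalizer hQ' hy₁)]
      rw [← e] at g3
      have g4 := g2.trans g3
      have e2 : v⁻¹ * (v * y * v⁻¹ * v) = y := by group
      rwa [e2] at g4
  -- main induction
  have main : ∀ (n : ℕ) (B : Subgroup G), B ≤ (S : Subgroup G) →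
      Nat.card (S : Subgroup G) - Nat.card B = n → ∀ g : G, cj(g, B) ≤ (S : Subgroup G) →
      Good 𝓕 ⊤ (S : Subgroup G) B g := by
    intro n
    induction n using Nat.strong_induction_on with
    | _ n ih =>
    intro B hB hn g hg
    have hcB := Subgroup.card_le_of_le hB
    have IH : ∀ B' : Subgroup G, B' ≤ (S : Subgroup G) → Nat.card B < Nat.card B' →
        ∀ g : G, cj(g, B') ≤ (S : Subgroup G) → Good 𝓕 ⊤ (S : Subgroup G) B' g := by
      intro B' hB' hlt
      have := Subgroup.card_le_of_le hB'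
      exact ih (Nat.card (S : Subgroup G) - Nat.card B') (by omega) B' hB' rfl
    by_cases hQB : Q ≤ B
    · obtain ⟨gb, d, hgb⟩ := hbar (B.map (QuotientGroup.mk' Q)) (Subgroup.map_mono hB)
        (QuotientGroup.mk' Q g) (Subgroup.mem_top _)
        (by rw [← map_conjMap]; exact Subgroup.map_mono hg)
      obtain ⟨g', hg', good⟩ := key _ _ d B hB hQB rfl
      have hy : g'⁻¹ * g ∈ DB Q B := by
        rw [mem_DB]
        intro b hb
        rw [← QuotientGroup.eq_one_iff]
        have h4 := hgb _ (Subgroup.mem_map_of_mem (QuotientGroup.mk' Q) hb)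
        rw [← hg'] at h4
        have h5 : ((g'⁻¹ * g * b * (g'⁻¹ * g)⁻¹ * b⁻¹ : G) : G ⧸ Q) =
            (QuotientGroup.mk' Q g')⁻¹ * (QuotientGroup.mk' Q g * QuotientGroup.mk' Q b *
              (QuotientGroup.mk' Q g)⁻¹) * QuotientGroup.mk' Q g' * (QuotientGroup.mk' Q b)⁻¹ := by
          show QuotientGroup.mk' Q (g'⁻¹ * g * b * (g'⁻¹ * g)⁻¹ * b⁻¹) = _
          simp only [map_mul, map_inv, mul_inv_rev, inv_inv]
          group
        rw [h5, ← h4]
        group
      have gy := hDB B hQB hB IH _ hy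
      have e : cj(g'⁻¹ * g, B) = B := conjMap_of_mem_normalizer (DB_le_normalizer hQB hy)
      have good' : Good 𝓕 ⊤ (S : Subgroup G) (cj(g'⁻¹ * g, B)) g' := by
        rw [e]; exact good
      have g5 := gy.trans good'
      have e2 : g' * (g'⁻¹ * g) = g := by group
      rwa [e2] at g5
    · have hlt : B < B ⊔ Q :=
        lt_of_le_of_ne le_sup_left (fun h => hQB (by rw [h]; exact le_sup_right))
      have hle : B ⊔ Q ≤ (S : Subgroup G) := sup_le hB hQS
      have hcj : cj(g, B ⊔ Q) ≤ (S : Subgroup G) := by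
        rw [Subgroup.map_sup]
        exact sup_le hg ((conjMap_normal_le Q g le_rfl).trans hQS)
      exact (IH _ hle (card_lt_card_of_lt hlt) g hcj).mono le_sup_left
  intro B hB g _ hg
  exact main _ B hB rfl g hg

/-- Strong closure passes to the quotient by a normal `p'`-subgroup. -/
theorem stronglyClosed_map_mk {G : Type*} [Group G] [Finite G] {p : ℕ} [Fact p.Prime]
    (P : Sylow p G) (K : Subgroup G) [K.Normal] (hK : (Nat.card K).Coprime p) {D : Subgroup G}
    (hD : IsStronglyClosed D (P : Subgroup G)) :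
    IsStronglyClosed (D.map (QuotientGroup.mk' K))
      ((P : Subgroup G).map (QuotientGroup.mk' K)) := by
  refine ⟨Subgroup.map_mono hD.1, ?_⟩
  rintro _ ⟨x, hx, rfl⟩ gb hgb
  obtain ⟨g, rfl⟩ := QuotientGroup.mk'_surjective K gb
  have h1 : g * x * g⁻¹ ∈ (P : Subgroup G) ⊔ K := by
    have h2 : g * x * g⁻¹ ∈
        ((P : Subgroup G).map (QuotientGroup.mk' K)).comap (QuotientGroup.mk' K) := by
      rw [Subgroup.mem_comap]
      simpa only [map_mul, map_inv] using hgb
    rwa [Subgroup.comap_map_eq, QuotientGroup.ker_mk'] at h2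
  obtain ⟨w, hw, hwV⟩ := Cfsg.Agent.H57.ZJL.conj_into_of_sup_rel K (P : Subgroup G)
    (cj(g, D) ⊓ ((P : Subgroup G) ⊔ K))
    (by intro u _; rw [Subgroup.normalizer_eq_top]; trivial) hK P.isPGroup'
    ((isPGroup_conjMap (P.isPGroup'.to_le hD.1)).to_le inf_le_left) inf_le_right
  have h3 : w * (g * x * g⁻¹) * w⁻¹ ∈ (P : Subgroup G) := hwV _ ⟨conj_mem_conjMap hx, h1⟩
  have h4 : (w * g) * x * (w * g)⁻¹ ∈ D := by
    apply hD.2 x hx (w * g)
    have e : (w * g) * x * (w * g)⁻¹ = w * (g * x * g⁻¹) * w⁻¹ := by group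
    rw [e]; exact h3
  refine ⟨(w * g) * x * (w * g)⁻¹, h4, ?_⟩
  have hw1 : QuotientGroup.mk' K w = 1 := (QuotientGroup.eq_one_iff w).mpr hw
  simp only [map_mul, map_inv, hw1, one_mul, mul_inv_rev, inv_one, mul_one]

/-- The constrained case: `G = O_{p'}(G) N_G(Ω_n Z J_n(D))` and the normalizer controls strong
fusion. -/
theorem fsf_of_constr {G : Type*} [Group G] [Finite G] {p : ℕ} [Fact p.Prime] (hp2 : p ≠ 2)
    (n : ℕ) (P : Sylow p G) {D : Subgroup G} (hD : IsStronglyClosed D (P : Subgroup G))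
    (hst : IsNormalizerPStable p (G ⧸ pPrimeCore p G))
    (hcon : Constr p (G ⧸ pPrimeCore p G))
    {W : Subgroup G → Subgroup G} (hW : W (P : Subgroup G) = nZ n D) :
    FSF {W} ⊤ (P : Subgroup G) := by
  have hKc : (Nat.card (pPrimeCore p G)).Coprime p := Cfsg.Agent.H40.card_pPrimeCore_coprime p G
  have hinj : ∀ x ∈ (P : Subgroup G), QuotientGroup.mk' (pPrimeCore p G) x = 1 → x = 1 := by
    intro x hx h1
    have h2 : x ∈ (P : Subgroup G) ⊓ pPrimeCore p G :=
      Subgroup.mem_inf.mpr ⟨hx, (QuotientGroup.eq_one_iff x).mp h1⟩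
    have h3 : (P : Subgroup G) ⊓ pPrimeCore p G = ⊥ := by
      apply Subgroup.inf_eq_bot_of_coprime
      obtain ⟨k, hk⟩ := IsPGroup.iff_card.mp P.isPGroup'
      rw [hk]
      exact Nat.Coprime.pow_left k hKc.symm
    rw [h3] at h2
    exact Subgroup.mem_bot.mp h2
  have hDb := stronglyClosed_map_mk P (pPrimeCore p G) hKc hD
  have hnorm := nZ_normal hp2 n hcon (qstab_of_isNormalizerPStable hst)
    (P.mapSurjective (QuotientGroup.mk'_surjective (pPrimeCore p G)))
    (D.map (QuotientGroup.mk' (pPrimeCore p G)))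
    (by rw [Sylow.coe_mapSurjective]; exact hDb)
  rw [← nZ_map_hom _ (fun x hx => hinj x (hD.1 hx))] at hnorm
  haveI hMn : (((nZ n D).map (QuotientGroup.mk' (pPrimeCore p G))).comap
      (QuotientGroup.mk' (pPrimeCore p G))).Normal := hnorm.comap _
  have hq : ∀ x ∈ ((nZ n D).map (QuotientGroup.mk' (pPrimeCore p G))).comap
      (QuotientGroup.mk' (pPrimeCore p G)), ∃ j : ℕ, x ^ (p ^ j) ∈ pPrimeCore p G := by
    intro x hx
    obtain ⟨z, hz, hzx⟩ := hx
    obtain ⟨j, hj⟩ := (P.isPGroup'.to_le ((nZ_le n _).trans hD.1)) ⟨z, hz⟩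
    refine ⟨j, ?_⟩
    have h1 := congrArg Subtype.val hj
    simp only [Subgroup.coe_pow, Subgroup.coe_one] at h1
    rw [← QuotientGroup.eq_one_iff, ← QuotientGroup.mk'_apply, map_pow, ← hzx, ← map_pow, h1,
      map_one]
  have h := normalizer_sup_eq_top_of_pquot P _ (pPrimeCore p G) hq
  have hPM : (P : Subgroup G) ⊓ ((nZ n D).map (QuotientGroup.mk' (pPrimeCore p G))).comap
      (QuotientGroup.mk' (pPrimeCore p G)) = nZ n D := by
    apply le_antisymm
    · intro x hx
      obtain ⟨z, hz, hzx⟩ := (Subgroup.mem_inf.mp hx).2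
      have hzP : z ∈ (P : Subgroup G) := hD.1 (nZ_le n _ hz)
      have h1 : QuotientGroup.mk' (pPrimeCore p G) (z⁻¹ * x) = 1 := by
        rw [map_mul, map_inv, hzx, inv_mul_cancel]
      have h2 := hinj _ (mul_mem (inv_mem hzP) (Subgroup.mem_inf.mp hx).1) h1
      rw [inv_mul_eq_one] at h2
      rw [← h2]; exact hz
    · exact le_inf ((nZ_le n _).trans hD.1) (fun z hz => ⟨z, hz, rfl⟩)
  rw [hPM] at h
  have hfac : ∀ a ∈ (⊤ : Subgroup G), ∃ k ∈ pPrimeCore p G, ∃ y ∈ N(nZ n D), a = k * y := by
    intro a _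
    have ha : a ∈ pPrimeCore p G ⊔ N(nZ n D) := by rw [sup_comm, h]; trivial
    obtain ⟨k, hk, y, hy, rfl⟩ := Subgroup.mem_sup_of_normal_left.mp ha
    exact ⟨k, hk, y, hy, rfl⟩
  have hPN : (P : Subgroup G) ≤ N(nZ n D) := by
    refine le_trans ?_ (normalizer_le_normalizer_nZ n D)
    intro s hs
    apply mem_normalizer_of_conjMap_le
    rw [conjMap_le_iff]
    intro x hx
    exact hD.2 x hx s (mul_mem (mul_mem hs (hD.1 hx)) (inv_mem hs))
  have hctl := Cfsg.Agent.H57.ZJL.local_control ⊤ (pPrimeCore p G) (N(nZ n D))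
    (by intro u _; rw [Subgroup.normalizer_eq_top]; trivial) hKc le_top hfac (P : Subgroup G)
    P.isPGroup' hPN
  intro B hB h _ hhB
  obtain ⟨c, hc, y, hy, hcy⟩ := hctl (B : Set G) h⁻¹ hB (Subgroup.mem_top _) (by
    rintro _ ⟨b, hb, rfl⟩
    have := hhB (conj_mem_conjMap hb)
    show h⁻¹⁻¹ * b * h⁻¹ ∈ (P : Subgroup G)
    rwa [inv_inv])
  have hy' : y⁻¹ ∈ N(W (P : Subgroup G)) := by rw [hW]; exact inv_mem hy
  have hact : ∀ b ∈ B, y⁻¹ * b * y⁻¹⁻¹ = h * b * h⁻¹ := by
    intro b hb
    have h1 : h = y⁻¹ * c⁻¹ := by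
      have := congrArg (fun t => t⁻¹) hcy
      simpa using this
    have h2 : c⁻¹ * b * c = b := by
      have := Subgroup.mem_centralizer_iff.mp hc b hb
      rw [mul_assoc, this]; group
    rw [h1]
    calc y⁻¹ * b * y⁻¹⁻¹ = y⁻¹ * (c⁻¹ * b * c) * y := by rw [h2]; group
      _ = y⁻¹ * c⁻¹ * b * (y⁻¹ * c⁻¹)⁻¹ := by group
  refine (Good.of_step (Set.mem_singleton W) (Subgroup.mem_top _) hy' ?_).congr hact
  rw [conjMap_le_iff]
  intro b hb
  rw [hact b hb]
  exact hhB (conj_mem_conjMap hb)

/-- **Main induction**: in a `Qd(p)`-free group (`p` odd) the functor `dFun n D` of a strongly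
closed subgroup `D` controls strong fusion. -/
theorem fsf_dFun {p : ℕ} [Fact p.Prime] (hp2 : p ≠ 2) {n : ℕ} (hn : n = 0 ∨ n = p) :
    ∀ (m : ℕ) (G : Type u) [Group G] [Finite G], Nat.card G = m →
      ¬ Involves ↥(qd p) G → ∀ (P : Sylow p G) (D : Subgroup G),
      IsStronglyClosed D (P : Subgroup G) → FSF {dFun n D} ⊤ (P : Subgroup G) := by
  intro m
  induction m using Nat.strong_induction_on with
  | _ m ih =>
  intro G _ _ hm hfree P D hD
  have hPp : IsPGroup p (P : Subgroup G) := P.isPGroup'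
  have hcf1 : IsConjugacyFunctor p (dFun n D) := isConjugacyFunctor_dFun hn D
  have hcf : ∀ W ∈ ({dFun n D} : Set (Subgroup G → Subgroup G)), IsConjugacyFunctor p W := by
    intro W hW
    rw [Set.mem_singleton_iff] at hW
    rw [hW]; exact hcf1
  -- proper subgroups
  have ihSub : ∀ M : Subgroup G, M ≠ ⊤ → ∀ T : Subgroup G, SylIn p T M →
      FSF {dFun n D} M T := by
    intro M hM T hT
    by_cases hTbot : T = ⊥
    · intro B hB h _ _
      rw [hTbot, le_bot_iff] at hB
      rw [hB]; exact Good.bot h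
    have hcard : Nat.card ↥M < m := by
      rw [← hm]
      exact lt_of_le_of_ne (Subgroup.card_le_card_group M)
        (fun h => hM (Subgroup.eq_top_of_card_eq M h))
    have hfree' : ¬ Involves ↥(qd p) ↥M := fun h => hfree (involves_of_subgroup M h)
    let T₀ : Sylow p ↥M := (hT.2.1.comap_subtype : IsPGroup p (T.subgroupOf M)).toSylow hT.2.2
    have hD' := dPart_stronglyClosed P hD hT.2.1
    have hD'M : dPart D T ≤ M := (dPart_le D T).trans hT.1
    have hD₀ : IsStronglyClosed ((dPart D T).subgroupOf M) (T₀ : Subgroup ↥M) := by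
      refine ⟨fun x hx => hD'.1 hx, ?_⟩
      intro x hx g hgx
      exact hD'.2 (x : G) hx (g : G) hgx
    have hD₀ne : (dPart D T).subgroupOf M ≠ ⊥ := by
      intro h
      apply dPart_ne_bot (D := D) hTbot
      have h5 := Subgroup.map_subgroupOf_eq_of_le hD'M
      rw [h, Subgroup.map_bot] at h5
      exact h5.symm
    have h1 := ih _ hcard ↥M rfl hfree' T₀ _ hD₀
    have h3 : ((T₀ : Subgroup ↥M)).map M.subtype = T := Subgroup.map_subgroupOf_eq_of_le hT.1
    have h2 := fsf_of_subtype M (𝓦' := {dFun n D}) (T₀ := (T₀ : Subgroup ↥M)) (by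
      intro W hW
      rw [Set.mem_singleton_iff] at hW
      refine ⟨dFun n D, rfl, ?_⟩
      rw [hW, h3, dFun_apply, dFun_apply, dPart_eq_of_stronglyClosed hD₀ hD₀ne]
      exact Cfsg.Agent.H57.ZJL.nZ_subgroupOf_map M hD'M n) h1
    rwa [h3] at h2
  -- the Sylow subgroup itself
  have hself : GoodOn {dFun n D} (P : Subgroup G) (P : Subgroup G) := by
    intro B hB h hh hcj
    exact Good.of_step (Set.mem_singleton _) (Subgroup.mem_top _)
      ((Subgroup.le_normalizer.trans (cf_normalizer_le hcf1 hPp)) hh) hcj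
  haveI hQn : (pCore p G).Normal := pCore_normal' p
  have hQp : IsPGroup p (pCore p G) := pCore_isPGroup p
  have hQS : pCore p G ≤ (P : Subgroup G) := pCore_le_sylow P
  by_cases hQ : pCore p G = ⊥
  · apply fsf_of_local P hcf
    intro U hUS hU hUsyl
    apply ihSub _ _ _ hUsyl
    intro htop
    apply hU
    have hUn : U.Normal := Subgroup.normalizer_eq_top_iff.mp htop
    have h1 := Cfsg.Agent.H39.le_pCore hUn (hPp.to_le hUS)
    rw [hQ] at h1
    exact le_bot_iff.mp h1
  · by_cases hSC : (P : Subgroup G) ⊔ Subgroup.centralizer ((pCore p G : Subgroup G) : Set G) = ⊤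
    · by_cases hSQ : (P : Subgroup G) = pCore p G
      · intro B hB g _ hg
        have hg' : g ∈ (P : Subgroup G) ⊔
            Subgroup.centralizer ((pCore p G : Subgroup G) : Set G) := by rw [hSC]; trivial
        obtain ⟨s, hs, c, hc, rfl⟩ := Subgroup.mem_sup_of_normal_right.mp hg'
        have hcB : ∀ b ∈ B, c * b * c⁻¹ = b := by
          intro b hb
          have hbQ : b ∈ pCore p G := by rw [← hSQ]; exact hB hb
          have := Subgroup.mem_centralizer_iff.mp hc b hbQ
          rw [← this]; group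
        have g1 : Good {dFun n D} ⊤ (P : Subgroup G) B c := Good.of_centralizes hcB
        have e : cj(c, B) = B := by
          have h1 : cj(c, B) = cj((1 : G), B) :=
            conjMap_congr (fun b hb => by rw [hcB b hb]; group)
          rw [h1, conjMap_one]
        have g2 : Good {dFun n D} ⊤ (P : Subgroup G) (cj(c, B)) s := by
          rw [e]
          refine hself B hB s hs ?_
          rw [conjMap_le_iff]
          intro q hq
          exact mul_mem (mul_mem hs (hB hq)) (inv_mem hs)
        exact g1.trans g2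
      · have hcardQ : Nat.card (G ⧸ pCore p G) < m := by
          rw [← hm, Subgroup.card_eq_card_quotient_mul_card_subgroup (pCore p G)]
          have h1 : 1 < Nat.card (pCore p G) := (Subgroup.one_lt_card_iff_ne_bot _).mpr hQ
          have h2 : 0 < Nat.card (G ⧸ pCore p G) := Nat.card_pos
          nlinarith
        have hfreeQ : ¬ Involves ↥(qd p) (G ⧸ pCore p G) := fun h =>
          hfree (involves_of_surjective (QuotientGroup.mk' (pCore p G))
            (QuotientGroup.mk'_surjective _) h)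
        have hTb := sylIn_map_mk P (pCore p G)
        let T₀ : Sylow p (G ⧸ pCore p G) :=
          hTb.2.1.toSylow (by rw [← Subgroup.relIndex_top_right]; exact hTb.2.2)
        have hbar : FSF {dFun n ((P : Subgroup G).map (QuotientGroup.mk' (pCore p G)))} ⊤
            ((P : Subgroup G).map (QuotientGroup.mk' (pCore p G))) :=
          ih _ hcardQ (G ⧸ pCore p G) rfl hfreeQ T₀ _ (isStronglyClosed_self _)
        refine fsf_case_ii' P (pCore p G) hQS hSC hbar ?_ hself
        intro W hW
        rw [Set.mem_singleton_iff] at hW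
        rw [hW]
        have hSbp : IsPGroup p ((P : Subgroup G).map (QuotientGroup.mk' (pCore p G))) :=
          hPp.map _
        have hcfb : IsConjugacyFunctor p
            (dFun n ((P : Subgroup G).map (QuotientGroup.mk' (pCore p G)))) :=
          isConjugacyFunctor_dFun hn _
        have hle : (P : Subgroup G) ≤ (N(dFun n ((P : Subgroup G).map
            (QuotientGroup.mk' (pCore p G))) ((P : Subgroup G).map
              (QuotientGroup.mk' (pCore p G))))).comap (QuotientGroup.mk' (pCore p G)) := by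
          intro s hs
          rw [Subgroup.mem_comap]
          exact (Subgroup.le_normalizer.trans (cf_normalizer_le hcfb hSbp))
            (Subgroup.mem_map_of_mem _ hs)
        have hne : (N(dFun n ((P : Subgroup G).map
            (QuotientGroup.mk' (pCore p G))) ((P : Subgroup G).map
              (QuotientGroup.mk' (pCore p G))))).comap (QuotientGroup.mk' (pCore p G)) ≠ ⊤ := by
          intro htop
          have h1 : N(dFun n ((P : Subgroup G).map
              (QuotientGroup.mk' (pCore p G))) ((P : Subgroup G).map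
                (QuotientGroup.mk' (pCore p G)))) = ⊤ :=
            Subgroup.comap_injective (QuotientGroup.mk'_surjective (pCore p G))
              (by rw [htop, Subgroup.comap_top])
          have hnn : (dFun n ((P : Subgroup G).map
              (QuotientGroup.mk' (pCore p G))) ((P : Subgroup G).map
                (QuotientGroup.mk' (pCore p G)))).Normal :=
            Subgroup.normalizer_eq_top_iff.mp h1
          have h2 := Cfsg.Agent.H39.le_pCore hnn (hSbp.to_le (cf_le hcfb hSbp))
          rw [pCore_quotient_pCore_eq_bot] at h2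
          have h3 : (P : Subgroup G).map (QuotientGroup.mk' (pCore p G)) = ⊥ := by
            by_contra hne'
            exact cf_ne_bot hcfb hSbp hne' (le_bot_iff.mp h2)
          have h4 : (P : Subgroup G) ≤ pCore p G := by
            rw [Subgroup.map_eq_bot_iff, QuotientGroup.ker_mk'] at h3
            exact h3
          exact hSQ (le_antisymm h4 hQS)
        exact goodOn_of_fsf (ihSub _ hne P (sylIn_of_sylow_le P hle))
    · by_cases hNQ : N((P : Subgroup G) ⊓ (pCore p G ⊔
          Subgroup.centralizer ((pCore p G : Subgroup G) : Set G))) = ⊤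
      · have hnn : ((P : Subgroup G) ⊓ (pCore p G ⊔
            Subgroup.centralizer ((pCore p G : Subgroup G) : Set G))).Normal :=
          Subgroup.normalizer_eq_top_iff.mp hNQ
        have hle := Cfsg.Agent.H39.le_pCore hnn (hPp.to_le inf_le_left)
        have hSCQ : (P : Subgroup G) ⊓ Subgroup.centralizer ((pCore p G : Subgroup G) : Set G) ≤
            pCore p G := (inf_le_inf_left _ le_sup_right).trans hle
        have hcon := constr_quotient_pPrimeCore P hSCQ
        have hD' := dPart_stronglyClosed P hD hPp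
        have hst : IsNormalizerPStable p (G ⧸ pPrimeCore p G) :=
          isNormalizerPStable_of_not_involves_qd hp2 (fun h =>
            hfree (involves_of_surjective (QuotientGroup.mk' (pPrimeCore p G))
              (QuotientGroup.mk'_surjective _) h))
        exact fsf_of_constr hp2 n P hD' hst hcon (dFun_apply n D P)
      · have hSN : (P : Subgroup G) ≤ N((P : Subgroup G) ⊓ (pCore p G ⊔
            Subgroup.centralizer ((pCore p G : Subgroup G) : Set G))) := by
          intro s hs
          apply mem_normalizer_of_conjMap_le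
          refine le_inf ?_ (conjMap_normal_le _ s inf_le_right)
          rw [conjMap_le_iff]
          intro q hq
          exact mul_mem (mul_mem hs hq.1) (inv_mem hs)
        exact fsf_case_i P (pCore p G ⊔ Subgroup.centralizer ((pCore p G : Subgroup G) : Set G))
          ((P : Subgroup G) ⊔ Subgroup.centralizer ((pCore p G : Subgroup G) : Set G))
          (N((P : Subgroup G) ⊓ (pCore p G ⊔
            Subgroup.centralizer ((pCore p G : Subgroup G) : Set G))))
          le_sup_left (sup_le (hQS.trans le_sup_left) le_sup_right) le_rfl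
          (goodOn_of_fsf (ihSub _ hSC P (sylIn_of_sylow_le P le_sup_left)))
          (goodOn_of_fsf (ihSub _ hNQ P (sylIn_of_sylow_le P hSN)))

/-- `N_G(Ω_n(Z(J_n(D))))` controls strong fusion in `P`, for `D` strongly closed in the Sylow
`p`-subgroup `P` of the `Qd(p)`-free group `G`, `p` odd, `n = 0` or `n = p`. -/
theorem ctl_nZ_of_stronglyClosed {G : Type u} [Group G] [Finite G] {p : ℕ} [Fact p.Prime]
    (hp2 : p ≠ 2) {n : ℕ} (hn : n = 0 ∨ n = p) (P : Sylow p G) (D : Subgroup G)
    (hD : IsStronglyClosed D (P : Subgroup G)) (hfree : ¬ Involves ↥(qd p) G) (A : Set G)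
    (hA : A ⊆ (P : Subgroup G)) :
    ControlsStrongFusionOf (N(nZ n D)) (P : Subgroup G) A := by
  refine ⟨hA, fun g hg => ?_⟩
  by_cases hDne : D = ⊥
  · refine ⟨g, ?_, fun a _ => rfl⟩
    have h1 : nZ n D = ⊥ := by
      rw [eq_bot_iff, ← hDne]; exact nZ_le n D
    rw [h1]
    have : (⊥ : Subgroup G).Normal := inferInstance
    rw [Subgroup.normalizer_eq_top_iff.mpr this]
    trivial
  · have h := fsf_dFun hp2 hn _ G rfl hfree P D hD
    obtain ⟨g', d, hg'⟩ := h (Subgroup.closure A) ((Subgroup.closure_le _).mpr hA) g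
      (Subgroup.mem_top _) (closure_conj_le hg)
    have h2 := fchain_single_mem' d
    rw [dFun_apply, dPart_eq_of_stronglyClosed hD hDne] at h2
    exact ⟨g', h2, fun a ha => (hg' a (Subgroup.subset_closure ha)).symm⟩

end Cfsg.Agent.H38.DF
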