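import Cfsg.Agent.H29.ZJCtl
import Cfsg.Agent.H57.ZJLocal
import Cfsg.Agent.H40.SecF
import Cfsg.Agent.H39.FChain2

set_option autoImplicit false

/-!
# A conjugacy functor attached to a strongly closed subgroup (helper38)

For a subgroup `D` strongly closed in a Sylow `p`-subgroup `P` of `G`, every `p`-subgroup `T`
of `G` has a canonical strongly closed subgroup `dPart D T` (generated by the `G`-conjugates
of elements of `D` lying in `T`, or `T` itself when there are none), and
`T ↦ Ω_n(Z(J_n(dPart D T)))` is a conjugacy functor whose value at `P` is `Ω_n(Z(J_n(D)))`.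
-/

namespace Cfsg.Agent.H38.DF

open Cfsg Cfsg.Agent.H39 Cfsg.Agent.H40.Sec Cfsg.Agent.H29

local notation "cj(" g ", " Q ")" => Subgroup.map (MulEquiv.toMonoidHom (MulAut.conj g)) Q
local notation "N(" Q ")" => Subgroup.normalizer (SetLike.coe (Q : Subgroup _))

section defs

variable {G : Type*} [Group G]

/-- All `G`-conjugates of elements of `D`. -/
def conjSet (D : Subgroup G) : Set G := {x | ∃ g : G, ∃ d ∈ D, x = g * d * g⁻¹}

theorem conj_mem_conjSet {D : Subgroup G} {x : G} (hx : x ∈ conjSet D) (h : G) :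
    h * x * h⁻¹ ∈ conjSet D := by
  obtain ⟨g, d, hd, rfl⟩ := hx
  exact ⟨h * g, d, hd, by group⟩

theorem subset_conjSet (D : Subgroup G) : (D : Set G) ⊆ conjSet D :=
  fun d hd => ⟨1, d, hd, by group⟩

/-- The subgroup of `T` generated by the conjugates of elements of `D` lying in `T`. -/
def dHat (D T : Subgroup G) : Subgroup G := Subgroup.closure ((T : Set G) ∩ conjSet D)

theorem dHat_le (D T : Subgroup G) : dHat D T ≤ T :=
  (Subgroup.closure_le T).mpr Set.inter_subset_left

theorem dHat_conj (D T : Subgroup G) (g : G) : dHat D (cj(g, T)) = cj(g, dHat D T) := by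
  unfold dHat
  rw [MonoidHom.map_closure]
  congr 1
  ext x
  constructor
  · rintro ⟨⟨t, ht, rfl⟩, hx⟩
    refine ⟨t, ⟨ht, ?_⟩, rfl⟩
    have := conj_mem_conjSet hx g⁻¹
    simpa [MulAut.conj_apply, mul_assoc] using this
  · rintro ⟨t, ⟨ht, htc⟩, rfl⟩
    refine ⟨⟨t, ht, rfl⟩, ?_⟩
    have := conj_mem_conjSet htc g
    simpa [MulAut.conj_apply] using this

theorem inter_conjSet_of_stronglyClosed {D P : Subgroup G} (h : IsStronglyClosed D P) :
    (P : Set G) ∩ conjSet D = D := by
  ext x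
  constructor
  · rintro ⟨hxP, g, d, hd, rfl⟩
    exact h.2 d hd g hxP
  · intro hx
    exact ⟨h.1 hx, subset_conjSet D hx⟩

theorem dHat_eq_of_stronglyClosed {D P : Subgroup G} (h : IsStronglyClosed D P) :
    dHat D P = D := by
  unfold dHat
  rw [inter_conjSet_of_stronglyClosed h, Subgroup.closure_eq]

theorem dHat_subset_conjSet [Finite G] {p : ℕ} [Fact p.Prime] (P : Sylow p G) {D : Subgroup G}
    (hD : IsStronglyClosed D (P : Subgroup G)) {T : Subgroup G} (hT : IsPGroup p T) :
    (dHat D T : Set G) ⊆ conjSet D := by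
  obtain ⟨g, hg⟩ := exists_conj_mem_sylow P hT
  have h1 : cj(g, T) ≤ (P : Subgroup G) := conjMap_le_iff.mpr hg
  have h2 : dHat D (cj(g, T)) ≤ D := by
    unfold dHat
    rw [Subgroup.closure_le]
    rintro x ⟨hx1, g', d, hd, rfl⟩
    exact hD.2 d hd g' (h1 hx1)
  rw [dHat_conj] at h2
  intro x hx
  have h3 : g * x * g⁻¹ ∈ D := h2 (conj_mem_conjMap hx)
  exact ⟨g⁻¹, _, h3, by group⟩

theorem dHat_stronglyClosed [Finite G] {p : ℕ} [Fact p.Prime] (P : Sylow p G) {D : Subgroup G}
    (hD : IsStronglyClosed D (P : Subgroup G)) {T : Subgroup G} (hT : IsPGroup p T) :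
    IsStronglyClosed (dHat D T) T := by
  refine ⟨dHat_le D T, ?_⟩
  intro x hx g hgx
  exact Subgroup.subset_closure ⟨hgx, conj_mem_conjSet (dHat_subset_conjSet P hD hT hx) g⟩

open Classical in
/-- The canonical nontrivial strongly closed subgroup of `T` attached to `D`. -/
noncomputable def dPart (D T : Subgroup G) : Subgroup G :=
  if dHat D T = ⊥ then T else dHat D T

theorem dPart_le (D T : Subgroup G) : dPart D T ≤ T := by
  unfold dPart
  split_ifs
  · exact le_rfl
  · exact dHat_le D T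

theorem dPart_ne_bot {D T : Subgroup G} (hT : T ≠ ⊥) : dPart D T ≠ ⊥ := by
  unfold dPart
  split_ifs with h
  · exact hT
  · exact h

theorem dPart_conj (D T : Subgroup G) (g : G) : dPart D (cj(g, T)) = cj(g, dPart D T) := by
  unfold dPart
  rw [dHat_conj]
  by_cases h : dHat D T = ⊥
  · rw [if_pos h, if_pos (by rw [h, Subgroup.map_bot])]
  · rw [if_neg h, if_neg]
    intro h'
    exact h ((Subgroup.map_eq_bot_iff_of_injective _ (MulAut.conj g).injective).mp h')

theorem dPart_stronglyClosed [Finite G] {p : ℕ} [Fact p.Prime] (P : Sylow p G) {D : Subgroup G}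
    (hD : IsStronglyClosed D (P : Subgroup G)) {T : Subgroup G} (hT : IsPGroup p T) :
    IsStronglyClosed (dPart D T) T := by
  unfold dPart
  split_ifs
  · exact isStronglyClosed_self T
  · exact dHat_stronglyClosed P hD hT

theorem dPart_eq_of_stronglyClosed {D P : Subgroup G} (h : IsStronglyClosed D P) (hD : D ≠ ⊥) :
    dPart D P = D := by
  unfold dPart
  rw [dHat_eq_of_stronglyClosed h, if_neg hD]

/-- The conjugacy functor `T ↦ Ω_n(Z(J_n(dPart D T)))`. -/
noncomputable def dFun (n : ℕ) (D : Subgroup G) : Subgroup G → Subgroup G :=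
  fun T => nZ n (dPart D T)

theorem dFun_apply (n : ℕ) (D T : Subgroup G) : dFun n D T = nZ n (dPart D T) := rfl

theorem isConjugacyFunctor_dFun [Finite G] {p : ℕ} [Fact p.Prime] {n : ℕ} (hn : n = 0 ∨ n = p)
    (D : Subgroup G) : IsConjugacyFunctor p (dFun n D) := by
  intro T hT
  refine ⟨(nZ_le n _).trans (dPart_le D T), ?_, ?_⟩
  · intro hne
    exact Cfsg.Agent.H57.ZJL.nZ_ne_bot hn _ (hT.to_le (dPart_le D T)) (dPart_ne_bot hne)
  · intro g
    show nZ n (dPart D (cj(g, T))) = cj(g, nZ n (dPart D T))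
    rw [dPart_conj]
    exact (nZ_map (MulAut.conj g) n _).symm

end defs

section transport

/-- Chains are carried along homomorphisms, for families matched at the Sylow subgroup. -/
theorem fchain_map {G G' : Type*} [Group G] [Group G'] (f : G →* G')
    {𝓦 : Set (Subgroup G → Subgroup G)} {𝓦' : Set (Subgroup G' → Subgroup G')}
    {K T : Subgroup G}
    (h𝓦 : ∀ W ∈ 𝓦, ∃ W' ∈ 𝓦', (W T).map f = W' (T.map f)) {B : Subgroup G} {g : G}
    (d : FChain 𝓦 K T B g) : FChain 𝓦' (K.map f) (T.map f) (B.map f) (f g) := by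
  induction d with
  | nil B => rw [map_one]; exact FChain.nil _
  | cons B x g W hW hx hxN hxB _ ih =>
    obtain ⟨W', hW', hWW'⟩ := h𝓦 W hW
    rw [map_mul]
    refine FChain.cons _ _ _ W' hW' (Subgroup.mem_map_of_mem f hx) ?_ ?_ ?_
    · rw [← hWW']
      exact Subgroup.le_normalizer_map f (Subgroup.mem_map_of_mem f hxN)
    · rw [← map_conjMap]
      exact Subgroup.map_mono hxB
    · rw [← map_conjMap]
      exact ih

/-- Control of strong fusion is carried along injective homomorphisms. -/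
theorem fsf_map_inj {G G' : Type*} [Group G] [Group G'] (f : G →* G')
    (hf : Function.Injective f)
    {𝓦 : Set (Subgroup G → Subgroup G)} {𝓦' : Set (Subgroup G' → Subgroup G')}
    {K T : Subgroup G}
    (h𝓦 : ∀ W ∈ 𝓦, ∃ W' ∈ 𝓦', (W T).map f = W' (T.map f))
    (hc : FSF 𝓦 K T) : FSF 𝓦' (K.map f) (T.map f) := by
  intro B' hB' h' hh' hcj
  obtain ⟨h, hh, rfl⟩ := hh'
  have hBm : (B'.comap f).map f = B' := by
    apply Subgroup.map_comap_eq_self
    exact hB'.trans (Subgroup.map_le_range f T)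
  have hB : B'.comap f ≤ T := by
    intro b hb
    obtain ⟨t, ht, hte⟩ := hB' (Subgroup.mem_comap.mp hb)
    rw [← hf hte]; exact ht
  have hcjB : cj(h, B'.comap f) ≤ T := by
    rw [conjMap_le_iff]
    intro q hq
    have h1 : f h * f q * (f h)⁻¹ ∈ T.map f := hcj (conj_mem_conjMap (Subgroup.mem_comap.mp hq))
    obtain ⟨t, ht, hte⟩ := h1
    have h2 : t = h * q * h⁻¹ := hf (by rw [hte]; simp)
    rw [← h2]; exact ht
  obtain ⟨g₀, d, hg₀⟩ := hc _ hB h hh hcjB
  have d' := fchain_map f h𝓦 d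
  rw [hBm] at d'
  refine ⟨f g₀, d', fun b' hb' => ?_⟩
  obtain ⟨t, _, rfl⟩ := hB' hb'
  have h3 := hg₀ t (Subgroup.mem_comap.mpr hb')
  have h4 := congrArg f h3
  simpa using h4

/-- Internalisation: control in the group `↥M` gives control in the subgroup `M`. -/
theorem fsf_of_subtype {G : Type*} [Group G] (M : Subgroup G) {T₀ : Subgroup ↥M}
    {𝓦 : Set (Subgroup ↥M → Subgroup ↥M)} {𝓦' : Set (Subgroup G → Subgroup G)}
    (h𝓦 : ∀ W ∈ 𝓦, ∃ W' ∈ 𝓦', (W T₀).map M.subtype = W' (T₀.map M.subtype))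
    (hc : FSF 𝓦 ⊤ T₀) : FSF 𝓦' M (T₀.map M.subtype) := by
  have h1 := fsf_map_inj M.subtype M.subtype_injective h𝓦 hc
  have h2 : (⊤ : Subgroup ↥M).map M.subtype = M := by
    rw [← MonoidHom.range_eq_map, Subgroup.range_subtype]
  rwa [h2] at h1

theorem fchain_single_mem' {G : Type*} [Group G] {W : Subgroup G → Subgroup G}
    {K T B : Subgroup G} {g : G} (d : FChain {W} K T B g) : g ∈ N(W T) := by
  induction d with
  | nil B => exact one_mem _
  | cons B x g W' hW' _ hxN _ _ ih =>
    rw [Set.mem_singleton_iff] at hW'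
    subst hW'
    exact mul_mem ih hxN

end transport

end Cfsg.Agent.H38.DF
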