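import Mathlib
import Cfsg.Agent.H76.NCZDefs
import Cfsg.Agent.H57.NCKSylP
import Cfsg.Agent.H76.NCKMstar
import Cfsg.Agent.S1411
import Cfsg.Agent.S1417
import Cfsg.Agent.S1418
import Cfsg.Agent.S1428

set_option autoImplicit false

/-!
# Piece NCZ-C3END (helper38, for helper76's NCZ sub-project of S1353 / S1354)

Case 3 of the configuration: a commutative `P`-invariant Sylow `r`-subgroup `S` of `G` with
`A ≤ S ≤ C_G(A)` and `Ω₁(C_S(P)) ≤ R` is impossible.
-/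

namespace Cfsg.Agent.H38.NCKill

open Cfsg Subgroup Cfsg.Agent.H76.NCKill

universe u

variable {G : Type u} [Group G] [Finite G]

/-- (C3END). -/
theorem c3End (hComm : StComm G) : StC3End G := by
  intro hG M E A P R r p _ hC hPA S hScomm hAS hSCA hPN hΩ
  have hr : r.Prime := Fact.out
  have hM := hC.coatom
  have hEM : E ≤ M := hC.compl.1
  have hAM : A ≤ M := hC.AE.trans hEM
  have hsimple : IsSimpleGroup G := hG.2.1
  have h17 := Cfsg.Agent.S1417.result hG M hM r hC.tau2 A ⟨hAM, hC.Ael, hC.Acard⟩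
  have h18 := Cfsg.Agent.S1418.result hG M hM E hC.compl r hC.tau2 A
    ⟨hC.AE, hC.Ael, hC.Acard⟩
  obtain ⟨⟨hEN, -⟩, ⟨hCA, hMN, hNnM⟩, h18c⟩ := h18
  -- `S ≤ M`, and `S` is a Sylow `r`-subgroup of `M`
  have hSM : (S : Subgroup G) ≤ M := hSCA.trans (hCA.trans inf_le_left)
  have hSMmap : ((S.subtype hSM : Sylow r M) : Subgroup M).map M.subtype = (S : Subgroup G) := by
    rw [Sylow.coe_subtype, Subgroup.subgroupOf_map_subtype]
    exact inf_eq_left.2 hSM
  obtain ⟨-, h17b, -, -, -, -⟩ := h17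
  obtain ⟨-, h17S⟩ := h17b (S.subtype hSM)
  rw [hSMmap] at h17S
  obtain ⟨hΩ1, hNSnM⟩ := h17S hAS
  apply hNSnM
  -- `M ≠ ⊤`
  have hMtop : M ≠ ⊤ := hM.1
  have hRS : R ≤ (S : Subgroup G) := hC.RA.trans hAS
  have hRM : R ≤ M := hC.RA.trans hAM
  have hRne : R ≠ ⊥ := by
    intro h
    have h1 : Nat.card R = 1 := by rw [h]; exact Subgroup.card_bot
    rw [hC.Rcard] at h1
    exact hr.one_lt.ne' h1
  have hSne : (S : Subgroup G) ≠ ⊥ := by
    intro h
    apply hRne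
    exact le_bot_iff.1 (h ▸ hRS)
  -- `N(S) ≠ ⊤`
  have hNStop : normalizer ((S : Subgroup G) : Set G) ≠ ⊤ := by
    intro h
    have hn : (S : Subgroup G).Normal := normalizer_eq_top_iff.1 h
    rcases hn.eq_bot_or_eq_top with h1 | h1
    · exact hSne h1
    · exact hMtop (top_le_iff.1 (h1 ▸ hSM))
  obtain ⟨L, hL, hNSL⟩ := exists_coatom_ge hNStop
  -- `S ≤ L'`
  obtain ⟨V, hV⟩ := Cfsg.Agent.H57.NCKill.exists_complIn_normalizer S
  have h11 := (Cfsg.Agent.S1411.result hG r S V hV).2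
  have hSL' : (S : Subgroup G) ≤ ⁅L, L⁆ := h11.trans (Subgroup.commutator_mono hNSL hNSL)
  -- `r ∉ β(L)`
  have hrβ : r ∉ beta L := by
    intro h
    obtain ⟨B, hBS, hBel, hAB⟩ := h.2.2.2 S A hAS hC.Ael hC.Acard
    have hBA : B ≤ A := fun b hb => (hΩ1 b (hBS hb)).1 (hBel.2 b hb)
    exact (not_le_of_gt hAB) hBA
  have hcomm := hComm hG L r hL hrβ S hSL'
  -- the key claim
  have key : ∀ n ∈ normalizer ((S : Subgroup G) : Set G), ∀ a ∈ R, n * a * n⁻¹ ∈ R := by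
    intro n hn a ha
    have haS : a ∈ (S : Subgroup G) := hRS ha
    have hbS : n * a * n⁻¹ ∈ (S : Subgroup G) := (mem_normalizer_iff.mp hn a).1 haS
    have hbr : (n * a * n⁻¹) ^ r = 1 := by
      rw [conj_pow, hC.Ael.2 a (hC.RA ha), mul_one, mul_inv_cancel]
    refine hΩ _ (mem_inf.2 ⟨hbS, ?_⟩) hbr
    rw [mem_centralizer_iff]
    intro g hg
    have hgN : g ∈ normalizer ((S : Subgroup G) : Set G) := hPN hg
    have hga : g * a = a * g := (hC.PR hg a ha).symm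
    have hwL : g * n * g⁻¹ * n⁻¹ ∈ ⁅L, L⁆ := by
      have := Subgroup.commutator_mem_commutator (hNSL hgN) (hNSL hn)
      rwa [commutatorElement_def] at this
    have hwN : g * n * g⁻¹ * n⁻¹ ∈ normalizer ((S : Subgroup G) : Set G) :=
      mul_mem (mul_mem (mul_mem hgN hn) (inv_mem hgN)) (inv_mem hn)
    obtain ⟨c, hc, s, hs, hw⟩ := hcomm _ ⟨hwL, hwN⟩
    have hcb : c * (n * a * n⁻¹) = (n * a * n⁻¹) * c := (mem_centralizer_iff.mp hc _ hbS).symm
    have hsb : s * (n * a * n⁻¹) = (n * a * n⁻¹) * s := by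
      have := hScomm.is_comm.comm (⟨s, hs⟩ : (S : Subgroup G)) ⟨n * a * n⁻¹, hbS⟩
      exact congrArg Subtype.val this
    have hwb : (g * n * g⁻¹ * n⁻¹) * (n * a * n⁻¹) = (n * a * n⁻¹) * (g * n * g⁻¹ * n⁻¹) := by
      rw [hw, mul_assoc, hsb, ← mul_assoc, hcb, mul_assoc]
    have e2 : g⁻¹ * a * g = a := by rw [mul_assoc, ← hga, inv_mul_cancel_left]
    have e1 : (g * n * g⁻¹ * n⁻¹) * (n * a * n⁻¹) * (n * g * n⁻¹) =
        g * n * (g⁻¹ * a * g) * n⁻¹ := by group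
    have e3 : (n * a * n⁻¹) * (g * n * g⁻¹ * n⁻¹) * (n * g * n⁻¹) = (n * a * n⁻¹) * g := by
      group
    calc g * (n * a * n⁻¹) = g * n * (g⁻¹ * a * g) * n⁻¹ := by rw [e2]; group
      _ = (g * n * g⁻¹ * n⁻¹) * (n * a * n⁻¹) * (n * g * n⁻¹) := e1.symm
      _ = (n * a * n⁻¹) * (g * n * g⁻¹ * n⁻¹) * (n * g * n⁻¹) := by rw [hwb]
      _ = (n * a * n⁻¹) * g := e3
  -- `N(S) ≤ N(R)`
  have hNSNR : normalizer ((S : Subgroup G) : Set G) ≤ normalizer (R : Set G) := by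
    intro n hn
    rw [mem_normalizer_iff]
    intro h
    refine ⟨fun hh => key n hn h hh, fun hh => ?_⟩
    have := key n⁻¹ (inv_mem hn) _ hh
    have e : n⁻¹ * (n * h * n⁻¹) * n⁻¹⁻¹ = h := by group
    rwa [e] at this
  -- `M_σ ⊓ C(R) ≠ ⊥`
  have hRCP : R ≤ E ⊓ centralizer (P : Set G) := by
    refine le_inf (hC.RA.trans hC.AE) ?_
    intro x hx
    rw [mem_centralizer_iff]
    intro g hg
    exact (hC.PR hg x hx).symm
  have h28 := Cfsg.Agent.S1428.result hG M hM E hC.compl p hC.tau1 P hC.PE hC.Pcard R hRCP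
    (by rw [hC.Rcard]; exact hr)
  have hKR : sigmaCore M ⊓ centralizer (R : Set G) ≠ ⊥ := by
    intro h
    apply hC.Kstar
    exact le_bot_iff.1 (h ▸ h28)
  obtain ⟨hCRM, huniq⟩ := h18c R hC.RA hC.Rcard hKR
  -- `N(R) ≤ M`
  have hNRtop : normalizer (R : Set G) ≠ ⊤ := by
    intro h
    have hn : R.Normal := normalizer_eq_top_iff.1 h
    rcases hn.eq_bot_or_eq_top with h1 | h1
    · exact hRne h1
    · exact hMtop (top_le_iff.1 (h1 ▸ hRM))
  obtain ⟨L', hL', hNRL'⟩ := exists_coatom_ge hNRtop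
  have hL'M : L' = M := huniq L' hL' ((centralizer_le_normalizer _).trans hNRL')
  exact hNSNR.trans (hL'M ▸ hNRL')

/-- verbatim check of the statement -/
example {G : Type u} [Group G] [Finite G] (hComm : StComm G) : StC3End G := c3End hComm

end Cfsg.Agent.H38.NCKill
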