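import Mathlib
import Cfsg.Agent.H76.NCZDefs
import Cfsg.Agent.H29.NCKCyc
import Cfsg.Agent.Lib.Helper30.CoprimeIface
import Cfsg.Agent.S1417
import Cfsg.Agent.S1418

set_option autoImplicit false

/-!
# Piece NCZ-C3SYL (helper38, parallel take, for helper76's NCZ sub-project of S1353 / S1354)

Case 3 of the configuration: a commutative `P`-invariant Sylow `r`-subgroup `S` of `G` with
`A ≤ S ≤ C_G(A)` and `Ω₁(C_S(P)) ≤ R`.
-/

namespace Cfsg.Agent.H38.NCKill

open Cfsg Subgroup Cfsg.Agent.H76.NCKill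

universe u

variable {G : Type u} [Group G]

/-- The normalizer of `A` normalizes the centralizer of `A` (one direction). -/
theorem conj_mem_centralizer_of_mem_normalizer {A : Subgroup G} {e x : G}
    (he : e ∈ normalizer (A : Set G)) (hx : x ∈ centralizer (A : Set G)) :
    e * x * e⁻¹ ∈ centralizer (A : Set G) := by
  rw [mem_centralizer_iff]
  intro a ha
  have h1 : e⁻¹ * a * e ∈ A := by
    have := (mem_normalizer_iff.mp (inv_mem he) a).1 ha
    simpa using this
  have h2 : (e⁻¹ * a * e) * x = x * (e⁻¹ * a * e) := mem_centralizer_iff.mp hx _ h1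
  calc a * (e * x * e⁻¹) = e * ((e⁻¹ * a * e) * x) * e⁻¹ := by group
    _ = e * (x * (e⁻¹ * a * e)) * e⁻¹ := by rw [h2]
    _ = e * x * e⁻¹ * a := by group

/-- The normalizer of `A` normalizes the centralizer of `A`. -/
theorem normalizer_le_normalizer_centralizer' (A : Subgroup G) :
    normalizer (A : Set G) ≤ normalizer ((centralizer (A : Set G) : Subgroup G) : Set G) := by
  intro e he
  rw [mem_normalizer_iff]
  intro x
  refine ⟨fun hx => conj_mem_centralizer_of_mem_normalizer he hx, fun hx => ?_⟩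
  have h1 := conj_mem_centralizer_of_mem_normalizer (inv_mem he) hx
  have e1 : e⁻¹ * (e * x * e⁻¹) * e⁻¹⁻¹ = x := by group
  rwa [e1] at h1

/-- If one Sylow `r`-subgroup is commutative then all of them are. -/
theorem sylow_comm_of_exists [Finite G] {r : ℕ} [Fact r.Prime]
    (hex : ∃ S : Sylow r G, IsMulCommutative (S : Subgroup G)) (S1 : Sylow r G) :
    ∀ x ∈ (S1 : Subgroup G), ∀ y ∈ (S1 : Subgroup G), x * y = y * x := by
  obtain ⟨S0, hS0⟩ := hex
  obtain ⟨g, hg⟩ := MulAction.exists_smul_eq G S0 S1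
  intro x hx y hy
  rw [← hg, Sylow.coe_subgroup_smul] at hx hy
  obtain ⟨x0, hx0, hxe⟩ := (Subgroup.mem_smul_pointwise_iff_exists _ _ _).1 hx
  obtain ⟨y0, hy0, hye⟩ := (Subgroup.mem_smul_pointwise_iff_exists _ _ _).1 hy
  have hc := congrArg Subtype.val (hS0.is_comm.comm ⟨x0, hx0⟩ ⟨y0, hy0⟩)
  have hc' : x0 * y0 = y0 * x0 := hc
  rw [← hxe, ← hye, MulAut.smul_def, MulAut.smul_def, MulAut.conj_apply, MulAut.conj_apply]
  calc g * x0 * g⁻¹ * (g * y0 * g⁻¹) = g * (x0 * y0) * g⁻¹ := by group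
    _ = g * (y0 * x0) * g⁻¹ := by rw [hc']
    _ = g * y0 * g⁻¹ * (g * x0 * g⁻¹) := by group

/-- (C3SYL). -/
theorem c3Syl [Finite G] : StC3Syl G := by
  intro hG M E A P R r p _ hC hPA hex
  have hr : r.Prime := Fact.out
  have hp : p.Prime := hC.tau1.1
  have : Fact p.Prime := ⟨hp⟩
  have hM := hC.coatom
  have hEM : E ≤ M := hC.compl.1
  have hAM : A ≤ M := hC.AE.trans hEM
  have h17 := Cfsg.Agent.S1417.result hG M hM r hC.tau2 A ⟨hAM, hC.Ael, hC.Acard⟩
  have h18 := Cfsg.Agent.S1418.result hG M hM E hC.compl r hC.tau2 A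
    ⟨hC.AE, hC.Ael, hC.Acard⟩
  obtain ⟨⟨hEN, -⟩, ⟨hCA, hMN, hNnM⟩, h18c⟩ := h18
  have hCE : centralizer (A : Set G) ≤ E := hMN ▸ hCA
  have hAC : A ≤ centralizer (A : Set G) := by
    intro a ha
    rw [mem_centralizer_iff]
    intro b hb
    exact congrArg Subtype.val (hC.Ael.1.is_comm.comm ⟨b, hb⟩ ⟨a, ha⟩)
  have hEC : E ≤ normalizer ((centralizer (A : Set G) : Subgroup G) : Set G) :=
    hEN.trans (normalizer_le_normalizer_centralizer' A)
  have hallcomm := sylow_comm_of_exists hex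
  -- a Sylow `r`-subgroup `S1` of `G` over `A`
  have hAr : IsPGroup r A := IsPGroup.of_card (n := 2) hC.Acard
  obtain ⟨S1, hAS1⟩ := hAr.exists_le_sylow
  have hS1C : (S1 : Subgroup G) ≤ centralizer (A : Set G) := by
    intro x hx
    rw [mem_centralizer_iff]
    intro a ha
    exact hallcomm S1 a (hAS1 ha) x hx
  -- `p ∤ |C(A)|`
  have hpC : ¬ p ∣ Nat.card (centralizer (A : Set G)) := by
    intro hdvd
    obtain ⟨q, hq⟩ := exists_prime_orderOf_dvd_card' p hdvd
    have hQc : Nat.card (zpowers (q : G)) = p := by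
      rw [Nat.card_zpowers, Subgroup.orderOf_coe, hq]
    have hQC : zpowers (q : G) ≤ centralizer (A : Set G) := (zpowers_le).2 q.2
    have hrkE : PRankLE p 1 E := Cfsg.Agent.H29.NCKill.pRankLE_of_le hEM hC.tau1.2.2.2.2
    obtain ⟨e, he, hconj⟩ := Cfsg.Agent.H29.NCKill.conj_of_card_prime hrkE (hQC.trans hCE)
      hC.PE hQc hC.Pcard
    apply hPA
    intro y hy
    have h1 := conj_mem_centralizer_of_mem_normalizer (inv_mem (hEN he)) (hQC (hconj y hy))
    have e1 : e⁻¹ * (e * y * e⁻¹) * e⁻¹⁻¹ = y := by group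
    rwa [e1] at h1
  have hcop : (Nat.card P).Coprime (Nat.card (centralizer (A : Set G))) := by
    rw [hC.Pcard]; exact (Nat.Prime.coprime_iff_not_dvd hp).2 hpC
  have hPsolv : Group.IsSolvable P := by
    have hPp : IsPGroup p P := IsPGroup.of_card (n := 1) (by rw [hC.Pcard, pow_one])
    have := hPp.isNilpotent
    infer_instance
  have hPNC : P ≤ normalizer ((centralizer (A : Set G) : Subgroup G) : Set G) :=
    hC.PE.trans hEC
  have hPNA : P ≤ normalizer (A : Set G) := hC.PE.trans hEN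
  obtain ⟨T, hAT, hPT⟩ := Cfsg.Agent.Lib.Helper30.coprime_invariant_le_sylow P
    (centralizer (A : Set G)) hPNC hcop (Or.inl hPsolv) r A hAC hAr hPNA
  have hcardS' : Nat.card ((T : Subgroup (centralizer (A : Set G))).map
      (centralizer (A : Set G)).subtype) = r ^ (Nat.card G).factorization r := by
    rw [Subgroup.card_map_of_injective (Subgroup.subtype_injective _)]
    have h1 : Nat.card (T : Subgroup (centralizer (A : Set G))) =
        Nat.card ((S1.subtype hS1C : Sylow r _) : Subgroup (centralizer (A : Set G))) := by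
      rw [T.card_eq_multiplicity, (S1.subtype hS1C).card_eq_multiplicity]
    rw [h1, Sylow.coe_subtype, Cfsg.Agent.H29.NCKill.card_subgroupOf_of_le hS1C]
    exact S1.card_eq_multiplicity
  obtain ⟨S, hS⟩ : ∃ S : Sylow r G, (S : Subgroup G) =
      (T : Subgroup (centralizer (A : Set G))).map (centralizer (A : Set G)).subtype :=
    ⟨Sylow.ofCard _ hcardS', rfl⟩
  have hSC : (S : Subgroup G) ≤ centralizer (A : Set G) := by
    rw [hS]
    rintro _ ⟨x, -, rfl⟩
    exact x.2
  have hAS : A ≤ (S : Subgroup G) := hS ▸ hAT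
  have hPS : P ≤ normalizer ((S : Subgroup G) : Set G) := hS ▸ hPT
  have hSM : (S : Subgroup G) ≤ M := hSC.trans (hCA.trans inf_le_left)
  have hSMmap : ((S.subtype hSM : Sylow r M) : Subgroup M).map M.subtype = (S : Subgroup G) := by
    rw [Sylow.coe_subtype, Subgroup.subgroupOf_map_subtype]
    exact inf_eq_left.2 hSM
  obtain ⟨-, h17b, -, -, -, -⟩ := h17
  obtain ⟨-, h17S⟩ := h17b (S.subtype hSM)
  rw [hSMmap] at h17S
  obtain ⟨hΩ1, -⟩ := h17S hAS
  have hScomm : IsMulCommutative (S : Subgroup G) :=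
    ⟨⟨fun a b => Subtype.ext (hallcomm S a a.2 b b.2)⟩⟩
  refine ⟨S, hScomm, hAS, hSC, hPS, ?_⟩
  -- `A ⊓ C(P) = R`
  have hRle : R ≤ A ⊓ centralizer (P : Set G) := by
    refine le_inf hC.RA ?_
    intro x hx
    rw [mem_centralizer_iff]
    intro g hg
    exact (hC.PR hg x hx).symm
  have hne : A ⊓ centralizer (P : Set G) ≠ A := by
    intro h
    apply hPA
    intro g hg
    rw [mem_centralizer_iff]
    intro a ha
    have ha2 : a ∈ A ⊓ centralizer (P : Set G) := by rw [h]; exact ha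
    exact (mem_centralizer_iff.mp ha2.2 g hg).symm
  have hRD : R = A ⊓ centralizer (P : Set G) := by
    apply Subgroup.eq_of_le_of_card_ge hRle
    rw [hC.Rcard]
    have hdvd : Nat.card ↥(A ⊓ centralizer (P : Set G)) ∣ r ^ 2 :=
      hC.Acard ▸ Subgroup.card_dvd_of_le inf_le_left
    obtain ⟨k, hk, hkc⟩ := (Nat.dvd_prime_pow hr).1 hdvd
    rw [hkc]
    interval_cases k
    · simpa using hr.one_lt.le
    · simp
    · exfalso
      apply hne
      exact Subgroup.eq_of_le_of_card_ge inf_le_left (by rw [hkc, hC.Acard])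
  intro x hx hxr
  rw [hRD]
  exact ⟨(hΩ1 x hx.1).1 hxr, hx.2⟩

/-- verbatim check of the statement -/
example {G : Type u} [Group G] [Finite G] : StC3Syl G := c3Syl

end Cfsg.Agent.H38.NCKill
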