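import Mathlib
import Cfsg.Agent.H76.NCZDefs
import Cfsg.Agent.S1417
import Cfsg.Agent.S1428

set_option autoImplicit false

/-!
# Piece NCZ-CASE2 (helper38, parallel take, for helper76's NCZ sub-project of S1353 / S1354)

Case 2 of the configuration: `P` centralizes `A`.
-/

namespace Cfsg.Agent.H38.NCKill

open Cfsg Subgroup Cfsg.Agent.H76.NCKill

universe u

variable {G : Type u} [Group G]

/-- (CASE2). -/
theorem case2 [Finite G] : StCase2 G := by
  intro hG M E A P R r p _ hC hPA
  have hr : r.Prime := Fact.out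
  have hM := hC.coatom
  have hEM : E ≤ M := hC.compl.1
  have hAM : A ≤ M := hC.AE.trans hEM
  have h17 := (Cfsg.Agent.S1417.result hG M hM r hC.tau2 A ⟨hAM, hC.Ael, hC.Acard⟩).2.2.2.1
  apply hC.Kstar
  rw [← le_bot_iff, ← h17]
  refine le_inf inf_le_left ?_
  intro x hx
  rw [mem_centralizer_iff]
  intro a ha
  by_cases ha1 : a = 1
  · rw [ha1]; simp
  · have hcard : Nat.card (zpowers a) = r := by
      rw [Nat.card_zpowers]
      have h1 : orderOf a ∣ r := orderOf_dvd_of_pow_eq_one (hC.Ael.2 a ha)
      rcases (Nat.dvd_prime hr).1 h1 with h | h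
      · exact absurd (orderOf_eq_one_iff.1 h) ha1
      · exact h
    have hle : zpowers a ≤ E ⊓ centralizer (P : Set G) := by
      rw [zpowers_le]
      refine mem_inf.2 ⟨hC.AE ha, ?_⟩
      rw [mem_centralizer_iff]
      intro g hg
      exact (mem_centralizer_iff.mp (hPA hg) a ha).symm
    have h28 := Cfsg.Agent.S1428.result hG M hM E hC.compl p hC.tau1 P hC.PE hC.Pcard
      (zpowers a) hle (by rw [hcard]; exact hr)
    have hx2 := (h28 hx).2
    exact mem_centralizer_iff.mp hx2 a (mem_zpowers a)

/-- verbatim check of the statement -/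
example {G : Type u} [Group G] [Finite G] : StCase2 G := case2

end Cfsg.Agent.H38.NCKill
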