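import Mathlib
import Cfsg.Agent.H76.NCZDefs
import Cfsg.Agent.H54.BG161Tau
import Cfsg.Agent.H58.BG10All2

set_option autoImplicit false

/-!
# Piece NCZ-EXA (helper38, parallel take, for helper76's NCZ sub-project of S1353 / S1354)

A complement of `M_σ` contains an elementary abelian subgroup of order `r²`, `r ∈ τ₂(M)`:
a wrapper around `Cfsg.Agent.H54.BG161.exA` (the S1421 team piece).
-/

namespace Cfsg.Agent.H38.NCKill

open Cfsg Subgroup

universe u

variable {G : Type u} [Group G]

/-- (EXA). -/
theorem exA [Finite G] : Cfsg.Agent.H76.NCKill.StExA G := by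
  intro hG M E r hM hE hr
  have : Fact r.Prime := ⟨hr.1⟩
  exact Cfsg.Agent.H54.BG161.exA (Cfsg.Agent.H58.BG10.st1350 hG) M hM E hE r hr

/-- verbatim check of the statement -/
example {G : Type u} [Group G] [Finite G] : Cfsg.Agent.H76.NCKill.StExA G := exA

end Cfsg.Agent.H38.NCKill
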