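import Mathlib
import Cfsg.Agent.H17.TgDefs
import Cfsg.Agent.H38.TgCW5

/-!
# TG-M2 (helper38, parallel piece for helper17's S1904)

`B` maximal normal `A`-invariant abelian, not central, of exponent 4: `X` is special of order 64
with exactly 3 involutions, all central.
-/

set_option autoImplicit false

namespace Cfsg.Agent.H38.Tg

open Cfsg Cfsg.Agent.H17.Tg
open scoped commutatorElement

universe u

/-- an element of order dividing 2 is central when `Z(X)` has order 4 and exponent 2, commutators
are central, and normal abelian subgroups have no `E₈` -/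
theorem m2_invol {X : Type u} [Group X] [Finite X]
    (hZ4 : Nat.card (Subgroup.center X) = 4) (hZ2 : ∀ z ∈ Subgroup.center X, z ^ 2 = 1)
    (hcomm : ∀ x y : X, x * y * x⁻¹ * y⁻¹ ∈ Subgroup.center X)
    (hrank : ∀ N : Subgroup X, N.Normal → (∀ a ∈ N, ∀ b ∈ N, a * b = b * a) →
      ∀ E : Subgroup X, E ≤ N → (∀ a ∈ E, a ^ 2 = 1) → Nat.card E ≤ 4)
    (t : X) (ht : t ^ 2 = 1) : t ∈ Subgroup.center X := by
  have htt : t * t = 1 := by rw [← pow_two]; exact ht
  -- an element `a` with `t * a` central commutes with `t`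
  have hct : ∀ a : X, t * a ∈ Subgroup.center X → t * a = a * t := by
    intro a ha
    have hz := Subgroup.mem_center_iff.mp ha t
    calc t * a = t⁻¹ * (t * (t * a)) := by group
      _ = t⁻¹ * ((t * a) * t) := by rw [hz]
      _ = a * t := by group
  let N : Subgroup X :=
    { carrier := {n | n ∈ Subgroup.center X ∨ t * n ∈ Subgroup.center X}
      one_mem' := Or.inl (Subgroup.one_mem _)
      mul_mem' := by
        rintro a b (ha | ha) (hb | hb)
        · exact Or.inl (Subgroup.mul_mem _ ha hb)
        · right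
          have h1 : t * (a * b) = a * (t * b) := by
            rw [← mul_assoc, Subgroup.mem_center_iff.mp ha t, mul_assoc]
          rw [h1]
          exact Subgroup.mul_mem _ ha hb
        · right
          rw [← mul_assoc]
          exact Subgroup.mul_mem _ ha hb
        · left
          have h1 : a * b = (t * a) * (t * b) := by
            calc a * b = (t * t) * (a * b) := by rw [htt, one_mul]
              _ = t * (t * a) * b := by group
              _ = t * (a * t) * b := by rw [hct a ha]
              _ = (t * a) * (t * b) := by group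
          rw [h1]
          exact Subgroup.mul_mem _ ha hb
      inv_mem' := by
        rintro a (ha | ha)
        · exact Or.inl (Subgroup.inv_mem _ ha)
        · right
          have hti : t⁻¹ = t := inv_eq_of_mul_eq_one_right htt
          have h2 : t * a⁻¹ = a⁻¹ * t := by
            have h3 := hct a ha
            calc t * a⁻¹ = a⁻¹ * (a * t) * a⁻¹ := by group
              _ = a⁻¹ * (t * a) * a⁻¹ := by rw [h3]
              _ = a⁻¹ * t := by group
          have h1 : t * a⁻¹ = (t * a)⁻¹ := by rw [mul_inv_rev, hti, h2]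
          rw [h1]
          exact Subgroup.inv_mem _ ha }
  have hNmem : ∀ n : X, n ∈ N ↔ (n ∈ Subgroup.center X ∨ t * n ∈ Subgroup.center X) :=
    fun n => Iff.rfl
  have hNn : N.Normal := by
    constructor
    intro n hn g
    rcases (hNmem n).mp hn with h | h
    · refine (hNmem _).mpr (Or.inl ?_)
      have : g * n * g⁻¹ = n := by
        rw [Subgroup.mem_center_iff.mp h g]; group
      rw [this]; exact h
    · refine (hNmem _).mpr (Or.inr ?_)
      have hc := hcomm g n
      have h1 : t * (g * n * g⁻¹) = (g * n * g⁻¹ * n⁻¹) * (t * n) := by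
        calc t * (g * n * g⁻¹) = t * (g * n * g⁻¹ * n⁻¹) * n := by group
          _ = (g * n * g⁻¹ * n⁻¹) * t * n := by rw [Subgroup.mem_center_iff.mp hc t]
          _ = (g * n * g⁻¹ * n⁻¹) * (t * n) := by group
      rw [h1]
      exact Subgroup.mul_mem _ hc h
  have hNab : ∀ a ∈ N, ∀ b ∈ N, a * b = b * a := by
    intro a ha b hb
    rcases (hNmem a).mp ha with ha | ha
    · exact (Subgroup.mem_center_iff.mp ha b).symm
    · rcases (hNmem b).mp hb with hb | hb
      · exact Subgroup.mem_center_iff.mp hb a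
      · have h1 : t * (a * b) = t * (b * a) := by
          calc t * (a * b) = (t * a) * b := by group
            _ = b * (t * a) := (Subgroup.mem_center_iff.mp ha b).symm
            _ = (b * t) * a := by group
            _ = (t * b) * a := by rw [hct b hb]
            _ = t * (b * a) := by group
        exact mul_left_cancel h1
  have hNexp : ∀ a ∈ N, a ^ 2 = 1 := by
    intro a ha
    rcases (hNmem a).mp ha with ha | ha
    · exact hZ2 a ha
    · have h1 : (t * a) ^ 2 = a ^ 2 := by
        rw [pow_two, pow_two]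
        calc t * a * (t * a) = t * (a * t) * a := by group
          _ = t * (t * a) * a := by rw [hct a ha]
          _ = (t * t) * (a * a) := by group
          _ = a * a := by rw [htt, one_mul]
      rw [← h1]
      exact hZ2 _ ha
  have hcard : Nat.card N ≤ 4 := hrank N hNn hNab N le_rfl hNexp
  have hZN : Subgroup.center X ≤ N := fun z hz => (hNmem z).mpr (Or.inl hz)
  have hEq : Subgroup.center X = N :=
    Subgroup.eq_of_le_of_card_ge hZN (by rw [hZ4]; exact hcard)
  rw [hEq]
  exact (hNmem t).mpr (Or.inr (by rw [htt]; exact Subgroup.one_mem _))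

/-- TG-M2 -/
theorem m2 (hVB : StVB.{u}) (hSq : StSq.{u}) (hSelf : StSelf.{u}) (hC1 : StC1.{u})
    (hC2 : StC2.{u}) (hC3 : StC3.{u}) (hIdx2 : StIdx2.{u}) (hFrat : StFrat.{u}) : StM2.{u} := by
  intro X _ _ A hyp B hB hnc hexp
  classical
  obtain ⟨vb1, vb2, -, -, -, vb6⟩ := hVB X A hyp B hB.1 hnc
  have self := hSelf X A hyp B hB hnc
  obtain ⟨hBn, hBinv, hBab⟩ := hB.1
  have hO1 : ∀ b ∈ B, b ^ 2 ^ 1 = 1 → b ∈ Subgroup.center X := by
    intro b hb h
    exact vb1 b hb (by simpa using h)
  have h4 : ∀ b ∈ B, b ^ 2 ^ (1 + 1) = 1 := by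
    intro b hb
    have := hexp b hb
    norm_num
    exact this
  obtain ⟨b₁, hb₁, hb₁c⟩ : ∃ b ∈ B, b ∉ Subgroup.center X := by
    by_contra h
    apply hnc
    intro b hb
    by_contra hbc
    exact h ⟨b, hb, hbc⟩
  have hb₁sq : b₁ ^ 2 ≠ 1 := fun h => hb₁c (vb1 b₁ hb₁ h)
  have c1 := hC1 X A hyp B hB.1 hnc 1 hO1 ⟨b₁, hb₁, h4 b₁ hb₁, hb₁c⟩
  have c2 := hC2 X A hyp B hB.1 hnc 1 hO1
  obtain ⟨c3a, c3b⟩ := hC3 X A hyp B hB.1 hnc 1 hO1
  have sq1 := hSq X A hyp B hB.1 hnc 1 b₁ hb₁ (by simpa using hb₁sq)
  -- Step 1, 2: the centre is `Ω₁(B)`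
  have hZB : ∀ z ∈ Subgroup.center X, z ∈ B := fun z hz =>
    self z (fun b _ => (Subgroup.mem_center_iff.mp hz b).symm)
  have hZ2 : ∀ z ∈ Subgroup.center X, z ^ 2 = 1 := fun z hz => by
    simpa using c1 z (hZB z hz) hz
  have hZiff : ∀ z : X, z ∈ Subgroup.center X ↔ (z ∈ B ∧ z ^ 2 = 1) := fun z =>
    ⟨fun hz => ⟨hZB z hz, hZ2 z hz⟩, fun h => vb1 z h.1 h.2⟩
  have hZ4 : Nat.card (Subgroup.center X) = 4 := by
    rw [← vb2]
    exact Nat.card_congr (Equiv.subtypeEquivRight hZiff)
  -- Step 3: `|B| = 16`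
  letI cB : CommGroup B :=
    { (inferInstance : Group B) with
      mul_comm := fun a b => Subtype.ext (hBab a a.2 b b.2) }
  let sqh : B →* B := powMonoidHom 2
  have hker : Nat.card sqh.ker = 4 := by
    rw [← vb2]
    refine Nat.card_congr
      ⟨fun k => ⟨(k.1 : X), k.1.2, congrArg Subtype.val (MonoidHom.mem_ker.mp k.2)⟩,
       fun v => ⟨⟨v.1, v.2.1⟩, MonoidHom.mem_ker.mpr (Subtype.ext v.2.2)⟩,
       fun k => rfl, fun v => rfl⟩
  have hrange : Nat.card sqh.range = 4 := by
    rw [← vb2]
    refine Nat.card_congr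
      ⟨fun k => ⟨(k.1 : X), k.1.2, ?_⟩,
       fun v => ⟨⟨v.1, v.2.1⟩, ?_⟩,
       fun k => rfl, fun v => rfl⟩
    · obtain ⟨b, hb⟩ := MonoidHom.mem_range.mp k.2
      have hb' : (b : X) ^ 2 = (k.1 : X) := congrArg Subtype.val hb
      rw [← hb', ← pow_mul]
      exact hexp b b.2
    · obtain ⟨b, hb, hbv⟩ := sq1 v.1 v.2.1 (by simpa using v.2.2)
      exact MonoidHom.mem_range.mpr ⟨⟨b, hb⟩, Subtype.ext hbv⟩
  have hB16 : Nat.card B = 16 := by
    have h1 := Subgroup.card_eq_card_quotient_mul_card_subgroup sqh.ker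
    have h2 : Nat.card (B ⧸ sqh.ker) = Nat.card sqh.range :=
      Nat.card_congr (QuotientGroup.quotientKerEquivRange sqh).toEquiv
    rw [h2, hker, hrange] at h1
    exact h1
  -- Step 3b: `|X : B| = 4`
  have hC : Subgroup.centralizer {b : X | b ∈ B ∧ b ^ 2 ^ (1 + 1) = 1} = B := by
    apply le_antisymm
    · intro c hc
      exact self c (fun b hb => ((Subgroup.mem_centralizer_iff.mp hc) b ⟨hb, h4 b hb⟩).symm)
    · intro c hc
      rw [Subgroup.mem_centralizer_iff]
      intro b hb
      exact hBab b hb.1 c hc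
  rw [hC] at c3a
  have hBtop : B ≠ ⊤ := by
    intro h
    apply hb₁c
    rw [Subgroup.mem_center_iff]
    intro g
    exact hBab g (h ▸ Subgroup.mem_top g) b₁ hb₁
  have hidx : B.index = 4 := by
    obtain ⟨k, hk⟩ := hyp.pgrp.index B
    have hk3 : k < 3 := by
      by_contra hge
      have := Nat.pow_le_pow_right (show 0 < 2 by norm_num) (show 3 ≤ k by omega)
      omega
    interval_cases k
    · exact absurd (Subgroup.index_eq_one.mp (by simpa using hk)) hBtop
    · exact absurd (by simpa using hk) (fun h => hIdx2 X A hyp B hBinv h)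
    · simpa using hk
  have hX64 : Nat.card X = 64 := by
    have := Subgroup.index_mul_card B
    rw [hidx, hB16] at this
    omega
  -- Step 5: squares are central
  have hsq : ∀ x : X, x ^ 2 ∈ Subgroup.center X := by
    intro x
    have hx2B : x ^ 2 ∈ B := self (x ^ 2) (fun b hb => c3b x b hb (h4 b hb))
    apply vb1 _ hx2B
    by_contra hne
    by_cases hxB : x ∈ B
    · apply hne
      rw [← pow_mul]
      exact hexp x hxB
    · apply hxB
      apply self
      intro b hb
      refine c2 x (x ^ 2) hx2B (h4 _ hx2B) (by simpa using hne) ?_ b hb (h4 b hb)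
      rw [← pow_succ', ← pow_succ]
  -- Step 6, 7: `X' = Z(X)`
  have hcomm : ∀ x y : X, x * y * x⁻¹ * y⁻¹ ∈ Subgroup.center X := cw_comm_mem hsq
  have hle : commutator X ≤ Subgroup.center X := by
    rw [commutator_def, Subgroup.commutator_le]
    intro g _ h _
    rw [commutatorElement_def]
    exact hcomm g h
  have hAinvC : AInv A (commutator X) := by
    intro φ _ h hh
    have hchar : (commutator X).Characteristic := by
      rw [commutator_def]; infer_instance
    have := hchar.fixed φ
    rw [← this] at hh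
    exact hh
  have hne : commutator X ≠ ⊥ := by
    intro hbot
    apply hb₁c
    rw [Subgroup.mem_center_iff]
    intro g
    have hm : ⁅g, b₁⁆ ∈ commutator X := by
      rw [commutator_def]
      exact Subgroup.commutator_mem_commutator (Subgroup.mem_top g) (Subgroup.mem_top b₁)
    rw [hbot, Subgroup.mem_bot, commutatorElement_eq_one_iff_mul_comm] at hm
    exact hm
  have hcz : commutator X = Subgroup.center X := by
    apply le_antisymm hle
    rcases vb6 (commutator X) hAinvC (fun w hw => (hZiff w).mp (hle hw)) with h | h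
    · exact absurd h hne
    · intro z hz
      exact h z ((hZiff z).mp hz).1 ((hZiff z).mp hz).2
  have hfr := hFrat X hyp.pgrp hcz hsq
  have hinv : ∀ t : X, t ^ 2 = 1 → t ∈ Subgroup.center X :=
    m2_invol hZ4 hZ2 hcomm hyp.rank
  have hord : ∀ x : X, orderOf x = 2 → x ∈ Subgroup.center X := by
    intro x hx
    apply hinv
    rw [← hx]
    exact pow_orderOf_eq_one x
  refine ⟨⟨hyp.pgrp, hfr, hcz⟩, hX64, ?_, hord⟩
  have hset : {x : X | orderOf x = 2} = (Subgroup.center X : Set X) \ {1} := by
    ext x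
    constructor
    · intro hx
      refine ⟨hord x hx, ?_⟩
      intro h1
      rw [Set.mem_singleton_iff] at h1
      have hx' : orderOf x = 2 := hx
      rw [h1, orderOf_one] at hx'
      omega
    · rintro ⟨hx, hx1⟩
      exact orderOf_eq_prime (hZ2 x hx) hx1
  have hn : Set.ncard (Subgroup.center X : Set X) = 4 := by
    rw [← hZ4]
    exact (Nat.card_coe_set_eq _).symm
  show Nat.card ↥({x : X | orderOf x = 2} : Set X) = 3
  rw [Nat.card_coe_set_eq, hset, Set.ncard_sdiff_singleton_of_mem (Subgroup.one_mem _), hn]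

example : StVB.{u} → StSq.{u} → StSelf.{u} → StC1.{u} → StC2.{u} → StC3.{u} → StIdx2.{u} →
    StFrat.{u} → StM2.{u} := m2

end Cfsg.Agent.H38.Tg

#print axioms Cfsg.Agent.H38.Tg.m2
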