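import Mathlib
import Cfsg.Agent.H83.UPDefs
import Cfsg.Agent.H98.TenSQ

/-!
# S6001-UINVB (helper38, for helper83's team project S6001)

The scalar `x^2 = z` of an element of `SU_4(p)` (`p ≡ 3 mod 4`) is the square of a unitary scalar.
-/

set_option autoImplicit false
open scoped MatrixGroups

namespace Cfsg.Agent.H38.UP

open Matrix Cfsg.Agent.H83.UP

universe u

/-- A finite field with `p^2` elements has characteristic `p`. -/
theorem charP_of_card_sq {F : Type u} [Field F] [Fintype F] {p : ℕ} (hp : p.Prime)
    (hF : Fintype.card F = p ^ 2) : CharP F p := by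
  obtain ⟨n, hprime, hn⟩ := FiniteField.card F (ringChar F)
  have h1 : ringChar F ∣ p ^ 2 := by
    rw [← hF, hn]
    exact dvd_pow_self _ n.ne_zero
  have h2 : ringChar F = p :=
    (Nat.prime_dvd_prime_iff_eq hprime hp).mp (hprime.dvd_of_dvd_pow h1)
  rw [← h2]
  exact ringChar.charP F

/-- S6001-UINVB. -/
theorem uInvB : StUInvB.{u} := by
  intro F _ _ p x z hp hF hp4 hdet hU hxx
  classical
  have hcharp : CharP F p := charP_of_card_sq hp hF
  have : Fact p.Prime := ⟨hp⟩
  have hrc : ringChar F ≠ 2 := by
    rw [ringChar.eq F p]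
    omega
  have h2 : (2 : F) ≠ 0 := Ring.two_ne_zero hrc
  have hz4 : z ^ 4 = 1 := by
    have h := congrArg Matrix.det hxx
    rw [Matrix.det_mul, hdet, Matrix.det_smul, Matrix.det_one, Fintype.card_fin] at h
    simpa using h.symm
  have hz0 : z ≠ 0 := by
    rintro rfl
    simp at hz4
  obtain ⟨m, hm⟩ : ∃ m, p = 4 * m + 3 := ⟨p / 4, by omega⟩
  have hsq : IsSquare z := by
    rw [FiniteField.isSquare_iff hrc hz0, hF]
    have h : p ^ 2 / 2 = 4 * (2 * m ^ 2 + 3 * m + 1) := by
      have h' : p ^ 2 = 2 * (4 * (2 * m ^ 2 + 3 * m + 1)) + 1 := by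
        rw [hm]
        ring
      omega
    rw [h, pow_mul, hz4, one_pow]
  obtain ⟨c, hc⟩ := hsq
  have hc0 : c ≠ 0 := by
    rintro rfl
    rw [mul_zero] at hc
    exact hz0 hc
  have hc8 : c ^ 8 = 1 := by
    have h : c ^ 8 = (c * c) ^ 4 := by ring
    rw [h, ← hc, hz4]
  have hz2 : z ^ 2 = 1 ∨ z ^ 2 = -1 := by
    have h : (z ^ 2 - 1) * (z ^ 2 + 1) = 0 := by linear_combination hz4
    rcases mul_eq_zero.mp h with h | h
    · left
      linear_combination h
    · right
      linear_combination h
  rcases hz2 with hz2 | hz2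
  · have h : (z - 1) * (z + 1) = 0 := by linear_combination hz2
    rcases mul_eq_zero.mp h with h | h
    · exact ⟨1, by rw [mul_one]; linear_combination -h, one_pow _⟩
    · refine ⟨c, hc.symm, ?_⟩
      have hc4 : c ^ 4 = 1 := by
        have h' : c ^ 4 = (c * c) ^ 2 := by ring
        rw [h', ← hc, hz2]
      have h' : p + 1 = 4 * (m + 1) := by omega
      rw [h', pow_mul, hc4, one_pow]
  · have hc4 : c ^ 4 = -1 := by
      have h' : c ^ 4 = (c * c) ^ 2 := by ring
      rw [h', ← hc, hz2]
    rcases Nat.even_or_odd m with ⟨k, hk⟩ | ⟨k, hk⟩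
    · exfalso
      have hcp : c ^ (p + 1) = -1 := by
        have h' : p + 1 = 8 * k + 4 := by omega
        rw [h', pow_add, pow_mul, hc8, one_pow, one_mul, hc4]
      have hpodd : Odd p := ⟨2 * m + 1, by omega⟩
      -- `y = c⁻¹ x` is an involution
      have hyy : (c⁻¹ • x) * (c⁻¹ • x) = 1 := by
        rw [Matrix.smul_mul, Matrix.mul_smul, hxx, smul_smul, smul_smul, hc]
        have h' : c⁻¹ * c⁻¹ * (c * c) = 1 := by field_simp
        rw [h', one_smul]
      -- the Frobenius relation for the trace of `x`
      have hxT : xᵀ * (z⁻¹ • xᵀ) = 1 := by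
        rw [Matrix.mul_smul, ← Matrix.transpose_mul, hxx, Matrix.transpose_smul,
          Matrix.transpose_one, smul_smul, inv_mul_cancel₀ hz0, one_smul]
      have hmap : x.map (fun a => a ^ p) = z⁻¹ • xᵀ := by
        have h1 : (z⁻¹ • xᵀ) * xᵀ = 1 := mul_eq_one_comm.mp hxT
        calc x.map (fun a => a ^ p) = ((z⁻¹ • xᵀ) * xᵀ) * x.map (fun a => a ^ p) := by
              rw [h1, Matrix.one_mul]
          _ = (z⁻¹ • xᵀ) * (xᵀ * x.map (fun a => a ^ p)) := by rw [Matrix.mul_assoc]
          _ = z⁻¹ • xᵀ := by
              have hU' : xᵀ * x.map (fun a => a ^ p) = 1 := hU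
              rw [hU', Matrix.mul_one]
      have htrx : (Matrix.trace x) ^ p = z⁻¹ * Matrix.trace x := by
        have h1 : Matrix.trace (x.map (fun a => a ^ p)) = (Matrix.trace x) ^ p := by
          simp only [Matrix.trace, Matrix.diag_apply, Matrix.map_apply]
          rw [sum_pow_char]
        rw [← h1, hmap, Matrix.trace_smul, Matrix.trace_transpose, smul_eq_mul]
      have htry : (Matrix.trace (c⁻¹ • x)) ^ p = - Matrix.trace (c⁻¹ • x) := by
        rw [Matrix.trace_smul, smul_eq_mul, mul_pow, htrx]
        have h' : c ^ p * z = -c := by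
          rw [hc, ← mul_assoc, ← pow_succ, hcp]
          ring
        have h'' : (c⁻¹) ^ p * z⁻¹ = -c⁻¹ := by
          rw [inv_pow, ← mul_inv, h', inv_neg]
        rw [← mul_assoc, h'']
        ring
      -- diagonalization
      obtain ⟨k', hk'⟩ : ∃ k', k' = Module.finrank F
          (LinearMap.ker (Matrix.toLin' (c⁻¹ • x + 1))) := ⟨_, rfl⟩
      have hk4 : k' ≤ 4 := by
        rw [hk']
        have h' := Submodule.finrank_le (LinearMap.ker (Matrix.toLin' (c⁻¹ • x + 1)))
        simpa using h'
      have h11 : (1 : F) ≠ -1 := by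
        intro h
        apply h2
        linear_combination h
      let ε : Fin 4 → F := fun i => if (i : ℕ) < k' then -1 else 1
      have hε : ∀ i, ε i = 1 ∨ ε i = -1 := by
        intro i
        by_cases h : (i : ℕ) < k'
        · right
          simp [ε, h]
        · left
          simp [ε, h]
      have hεiff : ∀ i : Fin 4, ε i = -1 ↔ (i : ℕ) < k' := by
        intro i
        by_cases h : (i : ℕ) < k'
        · simp [ε, h]
        · simp [ε, h, h11]
      have hcard : Nat.card {i : Fin 4 // ε i = -1} =
          Module.finrank F (LinearMap.ker (Matrix.toLin' (c⁻¹ • x + 1))) := by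
        rw [← hk', Nat.card_eq_fintype_card, Fintype.card_subtype]
        have h' : (Finset.univ.filter fun i : Fin 4 => ε i = -1) =
            Finset.univ.filter fun i : Fin 4 => (i : ℕ) < k' := by
          apply Finset.filter_congr
          intro i _
          exact hεiff i
        rw [h', Fin.card_filter_val_lt]
        omega
      obtain ⟨Q, hQ, hyQ⟩ := Cfsg.Agent.H98.Ten.exists_diagonalization_of_involution h2
        (c⁻¹ • x) hyy ε hε hcard
      have hyeq : c⁻¹ • x = Q * Matrix.diagonal ε * Q⁻¹ := by
        rw [← hyQ, Matrix.mul_assoc, Matrix.mul_nonsing_inv _ hQ, Matrix.mul_one]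
      have htr : Matrix.trace (c⁻¹ • x) = ∑ i, ε i := by
        rw [hyeq, Matrix.trace_mul_comm, ← Matrix.mul_assoc, Matrix.nonsing_inv_mul _ hQ,
          Matrix.one_mul, Matrix.trace_diagonal]
      have hdety : Matrix.det (c⁻¹ • x) = ∏ i, ε i := by
        have h' := congrArg Matrix.det hyQ
        rw [Matrix.det_mul, Matrix.det_mul, Matrix.det_diagonal, mul_comm] at h'
        exact mul_left_cancel₀ hQ.ne_zero h'
      have hdety' : Matrix.det (c⁻¹ • x) = -1 := by
        rw [Matrix.det_smul, hdet, Fintype.card_fin, mul_one, inv_pow, hc4, inv_neg, inv_one]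
      -- the trace is fixed by Frobenius
      have hfix : (∑ i, ε i) ^ p = ∑ i, ε i := by
        rw [sum_pow_char]
        refine Finset.sum_congr rfl fun i _ => ?_
        rcases hε i with h | h
        · rw [h, one_pow]
        · rw [h, hpodd.neg_one_pow]
      have hsum0 : ∑ i, ε i = 0 := by
        have h' : (∑ i, ε i) = -(∑ i, ε i) := by
          rw [← htr]
          rw [htr] at htry
          rw [htr, ← htry, hfix]
        have h'' : (2 : F) * ∑ i, ε i = 0 := by linear_combination h'
        exact (mul_eq_zero.mp h'').resolve_left h2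
      have h4 : (4 : F) ≠ 0 := by
        have h' : (4 : F) = 2 * 2 := by norm_num
        rw [h']
        exact mul_ne_zero h2 h2
      rw [hdety] at hdety'
      have hs : ((((if 0 < k' then (-1 : F) else 1) + if 1 < k' then (-1 : F) else 1) +
          if 2 < k' then (-1 : F) else 1) + if 3 < k' then (-1 : F) else 1) = 0 := by
        simpa [ε, Fin.sum_univ_four] using hsum0
      have hpr : ((((if 0 < k' then (-1 : F) else 1) * if 1 < k' then (-1 : F) else 1) *
          if 2 < k' then (-1 : F) else 1) * if 3 < k' then (-1 : F) else 1) = -1 := by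
        simpa [ε, Fin.prod_univ_four] using hdety'
      clear hsum0 hdety' hfix hdety htr hyeq hyQ hcard hεiff hε
      clear_value ε
      interval_cases k'
      · norm_num at hs
        exact h4 hs
      · norm_num at hs
        exact h2 hs
      · norm_num at hpr
        exact h11 hpr
      · norm_num at hs
        exact h2 hs
      · norm_num at hs
        exact h4 hs
    · refine ⟨c, hc.symm, ?_⟩
      have h' : p + 1 = 8 * (k + 1) := by omega
      rw [h', pow_mul, hc8, one_pow]

example : ∀ (F : Type u) [Field F] [Fintype F] (p : ℕ) (x : Matrix (Fin 4) (Fin 4) F) (z : F),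
    p.Prime → Fintype.card F = p ^ 2 → p % 4 = 3 → x.det = 1 → IsU p x →
    x * x = z • (1 : Matrix (Fin 4) (Fin 4) F) → ∃ c : F, c * c = z ∧ c ^ (p + 1) = 1 := uInvB

end Cfsg.Agent.H38.UP
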